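import Cfsg.Agent.Lib.Bender.FromB1.Minimal
import Cfsg.Agent.Lib.Bender.B1.Count
import Cfsg.Agent.Lib.Bender.TwoClosed.Key

/-!
Without bad elements every point fixed by a `p`-subgroup with at least three fixed points is a centre of its
centraliser, which is a Bender group there or has a single involution at each of these points.

Blueprint: `blueprint/bender/A5.md`, 1b.
-/

set_option autoImplicit false
set_option linter.unusedSectionVars false
set_option linter.style.haveILetI false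

namespace CfsgLib.Bender.OneFix

open MulAction Cfsg CfsgLib.Bender.TwoClosed
open CfsgLib.Bender.B1 (Below Good FourIn centres)

universe u v

section Centres

variable {G : Type u} {Ω : Type v} [Group G] [MulAction G Ω] [Finite G] [FaithfulSMul G Ω]
  (hF : OneFix G Ω)
include hF

/-- The involutions at a fixed point centralising a `p`-group, modulo `p`. -/
theorem invAt_modEq {p : ℕ} [Fact p.Prime] {X : Subgroup G} (hX : IsPGroup p X) {c : Ω} (hc : c ∈ fixSet Ω X) :
    Nat.card (InvAt G c) ≡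
      Nat.card {x : G // IsInv x ∧ x • c = c ∧ x ∈ Subgroup.centralizer (X : Set G)} [MOD p] := by
  letI : MulAction X (InvAt G c) :=
    MulAction.compHom (InvAt G c) (Subgroup.inclusion fun x hx => mem_stabilizer_iff.mpr (hc x hx))
  refine (hX.card_modEq_card_fixedPoints (InvAt G c)).trans ?_
  rw [Nat.card_congr (
    { toFun := fun x => ⟨x.1.1, x.1.2.1, x.1.2.2, fun e he => mul_inv_eq_iff_eq_mul.mp
        (congrArg Subtype.val (x.2 ⟨e, he⟩))⟩
      invFun := fun x => ⟨⟨x.1, x.2.1, x.2.2.1⟩, fun e => Subtype.ext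
        (mul_inv_eq_iff_eq_mul.mpr (x.2.2.2 e e.2))⟩
      left_inv := fun x => rfl
      right_inv := fun x => rfl } :
      fixedPoints X (InvAt G c) ≃ {x : G // IsInv x ∧ x • c = c ∧ x ∈ Subgroup.centralizer (X : Set G)})]

/-- A maximal `p`-subgroup of the normaliser of `X` inside a two-point stabiliser, fixing only these two points, is
a maximal `p`-subgroup of the normaliser. -/
theorem maxP_normalizer_of_two {p : ℕ} [Fact p.Prime] (hp2 : p ≠ 2) {X Y : Subgroup G} {c d : Ω} (hne : c ≠ d)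
    (hY : MaxP p (Subgroup.normalizer (X : Set G) ⊓ two c d) Y)
    (honly : ∀ e ∈ fixSet Ω Y, e = c ∨ e = d) : MaxP p (Subgroup.normalizer (X : Set G)) Y := by
  have hcY : c ∈ fixSet Ω Y := fun x hx => (mem_two.mp (hY.le hx).2).1
  have hdY : d ∈ fixSet Ω Y := fun x hx => (mem_two.mp (hY.le hx).2).2
  obtain ⟨P, hYP, hP⟩ :=
    exists_maxP hY.isPGroup (hY.le.trans inf_le_left : Y ≤ Subgroup.normalizer (X : Set G))
  rcases hYP.eq_or_lt with rfl | hlt
  · exact hP
  exfalso
  obtain ⟨g, hg, hgY, hgn⟩ := exists_mem_normalizer hP.isPGroup hlt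
  have hgc : g • c = c := by
    refine mem_stabilizer_iff.mp (mem_of_sq_mem (odd_orderOf_of_pGroup hp2 hP.isPGroup hg)
      (mem_stabilizer_iff.mpr ?_))
    rw [mul_smul]
    rcases honly _ (fixSet_smul hgn hcY) with e | e
    · rw [e, e]
    · rw [e]
      rcases honly _ (fixSet_smul hgn hdY) with e' | e'
      · exact e'
      · exact absurd (smul_left_cancel g (e'.trans e.symm)) hne.symm
  have hgd : g • d = d := by
    rcases honly _ (fixSet_smul hgn hdY) with e | e
    · exact absurd (smul_left_cancel g (e.trans hgc.symm)) hne.symm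
    · exact e
  have h2 := hY.eq_of_le (hP.isPGroup.to_le (sup_le hYP (Subgroup.zpowers_le.mpr hg)))
    (sup_le hY.le (Subgroup.zpowers_le.mpr ⟨hP.le hg, mem_two.mpr ⟨hgc, hgd⟩⟩)) le_sup_left
  exact hgY ((le_sup_right : _ ≤ Y ⊔ Subgroup.zpowers g).trans h2.le (Subgroup.mem_zpowers g))

variable (hNB : NoBad G Ω) {p : ℕ} [Fact p.Prime] (hp2 : p ≠ 2)
include hNB hp2

/-- Every point fixed by a `p`-group with three fixed points is the centre of an involution centralising it. -/
theorem exists_centre : ∀ X : Subgroup G, IsPGroup p X → ∀ c d e : Ω, c ∈ fixSet Ω X → d ∈ fixSet Ω X →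
    e ∈ fixSet Ω X → c ≠ d → c ≠ e → d ≠ e →
    ∃ z ∈ Subgroup.centralizer (X : Set G), IsInv z ∧ z • c = c := by
  intro X
  induction X using WellFoundedGT.induction with
  | _ X ih =>
  intro hX c d e hc hd he hcd hce hde
  by_contra hcn
  push Not at hcn
  have hzero : Nat.card (InvAt G c) ≡ 0 [MOD p] := by
    have h := invAt_modEq hF hX hc
    haveI : IsEmpty {x : G // IsInv x ∧ x • c = c ∧ x ∈ Subgroup.centralizer (X : Set G)} :=
      ⟨fun x => hcn x x.2.2.2 x.2.1 x.2.2.1⟩
    rwa [Nat.card_of_isEmpty (α := {x : G // IsInv x ∧ x • c = c ∧ x ∈ Subgroup.centralizer (X : Set G)})] at h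
  have hpm : p ∣ Nat.card (InvAt G c) := Nat.modEq_zero_iff_dvd.mp hzero
  set N := Subgroup.normalizer (X : Set G) with hNdef
  have hW : ∀ q ∈ fixSet Ω X, q ≠ c → ∃ W, MaxP p N W ∧ c ∈ fixSet Ω W ∧ q ∈ fixSet Ω W ∧
      ∀ r ∈ fixSet Ω W, r = c ∨ r = q := by
    intro q hq hqc
    have hXD : X ≤ two c q := fun x hx => mem_two.mpr ⟨hc x hx, hq x hx⟩
    obtain ⟨Y, hXY, hY⟩ := exists_maxP hX (le_inf Subgroup.le_normalizer hXD : X ≤ N ⊓ two c q)
    rcases hXY.eq_or_lt with rfl | hlt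
    · exfalso
      have hmax : MaxP p (two c q) X := by
        obtain ⟨Z, hXZ, hZ⟩ := exists_maxP hX hXD
        rcases hXZ.eq_or_lt with rfl | hlt'
        · exact hZ
        obtain ⟨g, hg, hgX, hgn⟩ := exists_mem_normalizer hZ.isPGroup hlt'
        have h2 := hY.eq_of_le (hZ.isPGroup.to_le (sup_le hXZ (Subgroup.zpowers_le.mpr hg)))
          (sup_le (le_inf Subgroup.le_normalizer hXD) (Subgroup.zpowers_le.mpr ⟨hgn, hZ.le hg⟩)) le_sup_left
        exact absurd ((le_sup_right : _ ≤ X ⊔ Subgroup.zpowers g).trans h2.le (Subgroup.mem_zpowers g)) hgX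
      obtain ⟨R, hR, -, honly⟩ := sylow_fixed hF hNB hp2 hpm hqc
      obtain ⟨g, hg, hgR⟩ := hmax.conj hR
      obtain ⟨hgc, hgq⟩ := mem_two.mp hg
      have hall : ∀ {r : Ω}, r ∈ fixSet Ω X → r = c ∨ r = q := fun {r} hr => by
        have hfix : g • r ∈ fixSet Ω R := fun x hx => by
          have h := hr _ ((hgR (g⁻¹ * x * g)).mpr (by simpa [mul_assoc] using hx))
          rwa [mul_smul, mul_smul, inv_smul_eq_iff] at h
        rcases honly _ hfix with h | h
        · exact Or.inl (smul_left_cancel g (h.trans hgc.symm))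
        · exact Or.inr (smul_left_cancel g (h.trans hgq.symm))
      have h1 := (hall hd).resolve_left hcd.symm
      have h2 := (hall he).resolve_left hce.symm
      exact hde (h1.trans h2.symm)
    have honly : ∀ r ∈ fixSet Ω Y, r = c ∨ r = q := by
      intro r hr
      by_contra h
      push Not at h
      obtain ⟨z, hz, hzi, hzc⟩ := ih Y hlt hY.isPGroup c q r (fun x hx => (mem_two.mp (hY.le hx).2).1)
        (fun x hx => (mem_two.mp (hY.le hx).2).2) hr hqc.symm h.1.symm h.2.symm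
      exact hcn z (Subgroup.centralizer_le (show (X : Set G) ⊆ Y from hXY) hz) hzi hzc
    exact ⟨Y, maxP_normalizer_of_two hF hp2 hqc.symm hY honly, fun x hx => (mem_two.mp (hY.le hx).2).1,
      fun x hx => (mem_two.mp (hY.le hx).2).2, honly⟩
  -- an involution centralising `X`
  obtain ⟨z, hzX, hzi⟩ : ∃ z ∈ Subgroup.centralizer (X : Set G), IsInv z := by
    by_contra h
    push Not at h
    exact fix_le_two hF hNB hp2 X hX (fun x hx hi => h x hx hi) c d e hc hd he hcd hce hde
  obtain ⟨g, hzg⟩ := exists_fix hF hzi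
  have hgX : g ∈ fixSet Ω X := fun x hx => commute_fix hF hzi hzg (hzX x hx)
  have hgc : g ≠ c := fun h => hcn z hzX hzi (h ▸ hzg)
  have hzn : z ∈ N := Subgroup.centralizer_le_normalizer _ hzX
  have hc' : z • c ∈ fixSet Ω X := fixSet_smul hzn hc
  have hc'c : z • c ≠ c := fun h => hgc (eq_of_fix hF hzi hzg h)
  obtain ⟨W1, hW1, hcW1, hgW1, -⟩ := hW g hgX hgc
  obtain ⟨W2, hW2, -, -, honly⟩ := hW _ hc' hc'c
  obtain ⟨n, hn, hnW⟩ := hW1.conj hW2
  have hfix : n • g ∈ fixSet Ω W2 := fun x hx => by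
    have h := hgW1 _ ((hnW (n⁻¹ * x * n)).mpr (by simpa [mul_assoc] using hx))
    rwa [mul_smul, mul_smul, inv_smul_eq_iff] at h
  have hcon : n * z * n⁻¹ ∈ Subgroup.centralizer (X : Set G) := fun x hx => by
    have h1 := hzX _ ((Subgroup.mem_normalizer_iff''.mp hn x).mp hx)
    calc x * (n * z * n⁻¹) = n * ((n⁻¹ * x * n) * z) * n⁻¹ := by group
      _ = n * (z * (n⁻¹ * x * n)) * n⁻¹ := by rw [h1]
      _ = n * z * n⁻¹ * x := by group
  rcases honly _ hfix with h | h
  · exact hcn _ hcon (hzi.conj n) (h ▸ smul_conj hzg)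
  · refine hcn (z * (n * z * n⁻¹) * z) (mul_mem (mul_mem hzX hcon) hzX) ?_ ?_
    · have := (hzi.conj n).conj z
      rwa [hzi.inv] at this
    · have h1 : (n * z * n⁻¹) • z • c = z • c := h ▸ smul_conj hzg
      rw [mul_smul, mul_smul, h1, hzi.smul_twice]

/-- Two such points are exchanged by an involution centralising `X`. -/
theorem exists_swap_cent {X : Subgroup G} (hX : IsPGroup p X) {c d e : Ω} (hc : c ∈ fixSet Ω X)
    (hd : d ∈ fixSet Ω X) (he : e ∈ fixSet Ω X) (hcd : c ≠ d) (hce : c ≠ e) (hde : d ≠ e) :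
    ∃ u ∈ Subgroup.centralizer (X : Set G), IsInv u ∧ u • c = d := by
  obtain ⟨i, hiX, hi, hic⟩ := exists_centre hF hNB hp2 X hX c d e hc hd he hcd hce hde
  obtain ⟨j, hjX, hj, hjd⟩ := exists_centre hF hNB hp2 X hX d c e hd hc he hcd.symm hde hce
  obtain ⟨u, hu, heq, hcl⟩ := exists_swap_conj hF hi hic hj hjd hcd
  refine ⟨u, (Subgroup.closure_le _).mpr ?_ hcl, hu, (swap_points hF hi hic hj hjd hu heq).1⟩
  rintro y (rfl | rfl)
  · exact hiX
  · exact hjX

end Centres

section Cases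

variable {G Ω : Type u} [Group G] [MulAction G Ω] [Finite G] [FaithfulSMul G Ω]
  (hF : OneFix G Ω) (hNB : NoBad G Ω) {p : ℕ} [Fact p.Prime] (hp2 : p ≠ 2) {X : Subgroup G}
  (hX : IsPGroup p X) {a b e : Ω} (ha : a ∈ fixSet Ω X) (hb : b ∈ fixSet Ω X) (he : e ∈ fixSet Ω X)
  (hab : a ≠ b) (hae : a ≠ e) (hbe : b ≠ e)
include hF hNB hp2 hX ha hb he hab hae hbe

/-- The centres of the centraliser are the fixed points. -/
theorem centres_cent : centres Ω (Subgroup.centralizer (X : Set G)) = fixSet Ω X := by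
  refine Set.ext fun c => ⟨?_, fun hc => ?_⟩
  · rintro ⟨x, hx, hi, hxc⟩ y hy
    exact commute_fix hF hi hxc (hx y hy)
  · obtain ⟨d, e', hd, he', h1, h2, h3⟩ : ∃ d e' : Ω, d ∈ fixSet Ω X ∧ e' ∈ fixSet Ω X ∧ c ≠ d ∧ c ≠ e' ∧ d ≠ e' := by
      rcases eq_or_ne c a with rfl | hca
      · exact ⟨b, e, hb, he, hab, hae, hbe⟩
      rcases eq_or_ne c b with rfl | hcb
      · exact ⟨a, e, ha, he, hab.symm, hbe, hae⟩
      · exact ⟨a, b, ha, hb, hca, hcb, hab⟩
    exact exists_centre hF hNB hp2 X hX c d e' hc hd he' h1 h2 h3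

/-- Without a four group centralising `X` there is one involution at each fixed point, and `p` does not divide
the number of involutions at a point. -/
theorem rank_one_case (h4 : ¬ FourIn (Subgroup.centralizer (X : Set G))) :
    (∀ x y : G, IsInv x → IsInv y → x ∈ Subgroup.centralizer (X : Set G) →
      y ∈ Subgroup.centralizer (X : Set G) → x • a = a → y • a = a → x = y) ∧
      ¬ p ∣ Nat.card (InvAt G a) := by
  set C := Subgroup.centralizer (X : Set G) with hC
  have hcen := centres_cent hF hNB hp2 hX ha hb he hab hae hbe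
  have huniq : ∀ x y : G, IsInv x → IsInv y → x ∈ C → y ∈ C → x • a = a → y • a = a → x = y := by
    intro x y hx hy hxC hyC hxa hya
    obtain ⟨c, hca, hall⟩ := B1.inverted_fix_one hF h4 hx hxC hxa ⟨b, by rw [hcen]; exact hb, hab.symm⟩
    have hodd := B1.odd_mul_of_no_four hF h4 hxC hyC hx hy
    have hfix : (x * y) • a = a := by rw [mul_smul, hya, hxa]
    have hinv : x * (x * y) * x = (x * y)⁻¹ := by rw [mul_inv_rev, hx.inv, hy.inv, ← mul_assoc, hx.2, one_mul]
    have h1 := hNB x _ a c hx hxa hinv hfix hca (hall _ (mul_mem hxC hyC) hfix hinv hodd)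
    rw [mul_eq_one_iff_eq_inv, hy.inv] at h1
    exact h1
  refine ⟨huniq, fun hd => ?_⟩
  obtain ⟨z, hzC, hzi, hza⟩ := exists_centre hF hNB hp2 X hX a b e ha hb he hab hae hbe
  haveI : Subsingleton {x : G // IsInv x ∧ x • a = a ∧ x ∈ C} :=
    ⟨fun x y => Subtype.ext (huniq x y x.2.1 y.2.1 x.2.2.2 y.2.2.2 x.2.2.1 y.2.2.1)⟩
  haveI : Nonempty {x : G // IsInv x ∧ x • a = a ∧ x ∈ C} := ⟨⟨z, hzi, hza, hzC⟩⟩
  have h := invAt_modEq hF hX ha
  rw [Nat.card_of_subsingleton (⟨z, hzi, hza, hzC⟩ : {x : G // IsInv x ∧ x • a = a ∧ x ∈ C})] at h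
  have h0 := (Nat.modEq_zero_iff_dvd.mpr hd).symm.trans h
  have hp1 := Nat.modEq_zero_iff_dvd.mp h0.symm
  exact (Fact.out : p.Prime).one_lt.ne' (Nat.dvd_one.mp hp1)

/-- With a four group the centraliser is a Bender group on the fixed points, so its point stabiliser is transitive
on the others. -/
theorem cent_transitive (hBel : B1.Below.{u} (Nat.card G)) (hX1 : X ≠ ⊥)
    (h4 : FourIn (Subgroup.centralizer (X : Set G))) {c d : Ω} (hc : c ∈ fixSet Ω X) (hd : d ∈ fixSet Ω X)
    (hca : c ≠ a) (hda : d ≠ a) :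
    ∃ g ∈ Subgroup.centralizer (X : Set G), g • a = a ∧ g • c = d := by
  set C := Subgroup.centralizer (X : Set G) with hC
  have hcen := centres_cent hF hNB hp2 hX ha hb he hab hae hbe
  have hCtop : C ≠ ⊤ := by
    intro h
    haveI : X.Normal := ⟨fun x hx g => by
      have hg : g ∈ C := h ▸ Subgroup.mem_top g
      rw [← hg x hx, mul_inv_cancel_right]
      exact hx⟩
    exact hX1 (B1.eq_bot_of_normal hF (N := X) (a := a) ha)
  have ha' : a ∈ centres Ω C := by rw [hcen]; exact ha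
  have hb' : b ∈ centres Ω C := by rw [hcen]; exact hb
  have hc' : c ∈ centres Ω C := by rw [hcen]; exact hc
  have hd' : d ∈ centres Ω C := by rw [hcen]; exact hd
  obtain ⟨t, Q, hS, -⟩ := B1.good_centres hF hBel hCtop h4 ha' hb' hab.symm ⟨a, ha'⟩
  haveI : Finite (B1.centresPerm Ω C).range := Finite.of_surjective _ (MonoidHom.rangeRestrict_surjective _)
  obtain ⟨⟨_, g, rfl⟩, ⟨hga, hgc⟩⟩ := RankOne.two_pt hS
    (p := ⟨a, ha'⟩) (q := ⟨c, hc'⟩) (p' := ⟨a, ha'⟩) (q' := ⟨d, hd'⟩)
    (fun h => hca (congrArg Subtype.val h).symm) (fun h => hda (congrArg Subtype.val h).symm)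
  exact ⟨g, g.2, congrArg Subtype.val hga, congrArg Subtype.val hgc⟩

end Cases

end CfsgLib.Bender.OneFix
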