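import Cfsg.Agent.Lib.Bender.FromB1.Complement

/-!
Bender's theorem without bad elements when every element of prime order with three fixed points has a four group
in its centraliser.
-/

set_option autoImplicit false
set_option linter.unusedSectionVars false

namespace CfsgLib.Bender.OneFix

open MulAction CfsgLib.Bender.TwoClosed
open CfsgLib.Bender.B1 (FourIn Good)

universe u

variable {G Ω : Type u} [Group G] [MulAction G Ω] [Finite G] [FaithfulSMul G Ω] (hF : OneFix G Ω)
  (hNB : NoBad G Ω) (hBel : B1.Below.{u} (Nat.card G))
include hF hNB hBel

/-- Without elements of rank one the point stabiliser itself is a piece. -/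
theorem good_of_four {a b : Ω} (hab : b ≠ a)
    (h : ∀ y : G, y ∈ two a b → (orderOf y).Prime → Third a b y →
      FourIn (Subgroup.centralizer (Subgroup.zpowers y : Set G))) : Good G Ω :=
  Piece.good hF hNB hBel hab (M := stabilizer G a)
    ⟨le_rfl, fun _ hh _ hx => mul_mem (mul_mem hh hx) (inv_mem hh), fun y _ => h y,
      fun _ _ _ _ _ _ hga _ _ => mem_stabilizer_iff.mpr hga⟩
    (sup_eq_left.mpr inf_le_left)

/-- A counterexample has an element of prime order fixing three points without four group in its centraliser. -/
theorem exists_rankOne (hnG : ¬ Good G Ω) {a b : Ω} (hab : b ≠ a) :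
    ∃ y : G, y ∈ two a b ∧ (orderOf y).Prime ∧ Third a b y ∧
      ¬ FourIn (Subgroup.centralizer (Subgroup.zpowers y : Set G)) := by
  by_contra h
  push Not at h
  exact hnG (good_of_four hF hNB hBel hab h)

end CfsgLib.Bender.OneFix
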