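import Cfsg.Agent.Lib.Bender.FromB1.Piece
import Cfsg.Agent.Lib.CharTheory.BrauerSuzuki
import Cfsg.Agent.Lib.SuzukiRankOne.Main

/-!
A piece has a normal complement to its two-point stabiliser, and a piece covering `G_a` modulo `G_ab` gives Bender's
conclusion.
-/

set_option autoImplicit false
set_option linter.unusedSectionVars false
set_option linter.style.haveILetI false

namespace CfsgLib.Bender.OneFix

open MulAction Cfsg CfsgLib.Bender.TwoClosed
open CfsgLib.Bender.B1 (Good)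
open CfsgLib.CharTheory (brauer_suzuki_complement)

universe u

section Setup

variable {G Ω : Type u} [Group G] [MulAction G Ω]

/-- A rank one set-up at one point gives one at each point. -/
theorem good_of_one [Finite G] {a : Ω} {t : G} {Q : Subgroup G} (hS : IsRankOneSetup G Ω a t Q)
    (hQ : IsPGroup 2 Q) : Good G Ω := by
  intro c
  haveI := RankOne.pretransitive hS
  obtain ⟨g, rfl⟩ := exists_smul_eq G a c
  have hconj : ∀ {x : G} {d : Ω}, (g * x * g⁻¹) • g • d = g • x • d := fun {x d} => by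
    rw [mul_smul, inv_smul_smul, mul_smul]
  have hstab : ∀ {x : G} {d : Ω}, g * x * g⁻¹ ∈ stabilizer G (g • d) ↔ x ∈ stabilizer G d := fun {x d} => by
    rw [mem_stabilizer_iff, mem_stabilizer_iff, hconj, smul_left_cancel_iff]
  have hmap : ∀ d : Ω, stabilizer G (g • d) = (stabilizer G d).map (MulAut.conj g).toMonoidHom := fun d => by
    ext x
    refine ⟨fun hx => ⟨g⁻¹ * x * g, hstab.mp (by rwa [show g * (g⁻¹ * x * g) * g⁻¹ = x by group]), ?_⟩, ?_⟩
    · show g * (g⁻¹ * x * g) * g⁻¹ = x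
      group
    · rintro ⟨y, hy, rfl⟩
      exact hstab.mpr hy
  have hinj : Function.Injective (MulAut.conj g).toMonoidHom := (MulAut.conj g).injective
  have ht : (g * t * g⁻¹) • g • a = g • t • a := hconj
  refine ⟨g * t * g⁻¹, Q.map (MulAut.conj g).toMonoidHom, ⟨hS.two_transitive, ?_, ?_, ?_, ?_, ?_, ?_, ?_, ?_, ?_⟩,
    hQ.map _⟩
  · rw [conj_mul, hS.mul_self, mul_one, mul_inv_cancel]
  · exact fun e => hS.ne_one (conj_eq_one_iff.mp e)
  · exact fun e => hS.not_mem (hstab.mp e)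
  · rw [hmap a]
    exact Subgroup.map_mono hS.le
  · rw [hmap a]
    rintro _ ⟨h, hh, rfl⟩ _ ⟨x, hx, rfl⟩
    exact ⟨h * x * h⁻¹, hS.conj_mem h hh x hx, by rw [map_mul, map_mul, map_inv]⟩
  · rw [ht, hmap, ← Subgroup.map_inf _ _ _ hinj, hS.inf_eq_bot, Subgroup.map_bot]
  · rw [ht, hmap, hmap, ← Subgroup.map_inf _ _ _ hinj, ← Subgroup.map_sup, hS.sup_eq]
  · rw [Subgroup.card_map_of_injective hinj]
    exact hS.even_card
  · rw [ht, hmap, hmap, ← Subgroup.map_inf _ _ _ hinj, Subgroup.card_map_of_injective hinj]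
    exact hS.odd_card

variable [Finite G] [FaithfulSMul G Ω] (hF : OneFix G Ω) (hNB : NoBad G Ω) {a b : Ω} (hab : b ≠ a)
include hF hNB hab

/-- A normal complement of `G_ab` in `G_a` gives Bender's conclusion. -/
theorem good_of_complement {Q : Subgroup G} (hQ : Q ≤ stabilizer G a)
    (hn : ∀ h ∈ stabilizer G a, ∀ x ∈ Q, h * x * h⁻¹ ∈ Q) (hinf : Q ⊓ two a b = ⊥)
    (hsup : Q ⊔ two a b = stabilizer G a) : Good G Ω := by
  haveI : Fact (Nat.Prime 2) := ⟨Nat.prime_two⟩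
  obtain ⟨⟨t, ht, hta⟩⟩ := exists_swap hF hab.symm
  have hdec : ∀ h ∈ stabilizer G a, ∃ q ∈ Q, ∃ d ∈ two a b, h = q * d := fun h hh => by
    have hnQ : two a b ≤ Subgroup.normalizer (Q : Set G) := fun d hd =>
      mem_normalizer_of_conj (hn d ((Subgroup.mem_inf.mp hd).1))
    rw [← hsup, ← SetLike.mem_coe, Subgroup.coe_mul_of_right_le_normalizer_left _ _ hnQ] at hh
    obtain ⟨q, hq, d, hd, rfl⟩ := Set.mem_mul.mp hh
    exact ⟨q, hq, d, hd, rfl⟩
  obtain ⟨z, hz, hza⟩ := exists_inv_at hF a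
  obtain ⟨q, hq, d, hd, hzqd⟩ := hdec z (mem_stabilizer_iff.mpr hza)
  have hd2 : d * d = 1 := by
    refine Subgroup.mem_bot.mp (hinf.le (Subgroup.mem_inf.mpr ⟨?_, mul_mem hd hd⟩))
    have e : d = q⁻¹ * z := by rw [hzqd]; group
    rw [e, show q⁻¹ * z * (q⁻¹ * z) = q⁻¹ * (z * q⁻¹ * z) by group]
    refine mul_mem (inv_mem hq) ?_
    have h := hn z (mem_stabilizer_iff.mpr hza) _ (inv_mem hq)
    rwa [hz.inv] at h
  have hzQ : z ∈ Q := by
    rwa [hzqd, eq_one_of_two_odd (by rw [pow_two, hd2]) (odd_orderOf (odd_two hF hab.symm) hd), mul_one]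
  have hS : IsRankOneSetup G Ω a t Q := by
    refine ⟨two_pretransitive hF hNB, ht.2, ht.1, fun e => hab ?_, hQ, hn, ?_, ?_, ?_, ?_⟩
    · rw [← hta, mem_stabilizer_iff.mp e]
    · rw [eq_bot_iff, hta]
      rintro x ⟨hx, hxb⟩
      exact hinf.le (Subgroup.mem_inf.mpr ⟨hx, Subgroup.mem_inf.mpr ⟨hQ hx, hxb⟩⟩)
    · rw [hta]
      exact hsup
    · have h2 := Subgroup.orderOf_dvd_natCard Q hzQ
      rw [CfsgLib.Involutions.orderOf_eq_two_iff'.mpr ⟨hz.2, hz.1⟩] at h2
      exact even_iff_two_dvd.mpr h2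
    · rw [hta]
      exact odd_two hF hab.symm
  exact good_of_one hS (CfsgLib.SuzukiRankOne.concl hS hF.four).1

end Setup

namespace Piece

variable {G Ω : Type u} [Group G] [MulAction G Ω] [Finite G] [FaithfulSMul G Ω] (hF : OneFix G Ω)
  (hNB : NoBad G Ω) (hBel : B1.Below.{u} (Nat.card G)) {a b : Ω} (hab : b ≠ a) {M : Subgroup G}
  (hM : Piece a b M)
include hF hNB hBel hab hM

/-- `M ∩ G_ab` has a normal complement in `M`, which is normal in `G_a`. -/
theorem exists_complement :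
    ∃ Q : Subgroup G, Q ≤ M ∧ (∀ h ∈ stabilizer G a, ∀ x ∈ Q, h * x * h⁻¹ ∈ Q) ∧ Q ⊓ two a b = ⊥ ∧
      Q ⊔ M ⊓ two a b = M ∧ (Nat.card Q).Coprime (Nat.card ↥(M ⊓ two a b)) := by
  set Dm : Subgroup M := (two a b).subgroupOf M with hDm
  have hmap : Dm.map M.subtype = M ⊓ two a b := by
    rw [hDm, Subgroup.subgroupOf_map_subtype, inf_comm]
  have hcard : Nat.card Dm = Nat.card ↥(M ⊓ two a b) := by
    rw [← hmap, Subgroup.card_map_of_injective M.subtype_injective]
  have hmem : ∀ {x : M}, x ∈ Dm ↔ (x : G) ∈ two a b := Iff.rfl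
  have hHall : (Nat.card Dm).Coprime Dm.index := by
    refine Nat.coprime_of_dvd fun p hp hpc hpi => ?_
    haveI := Fact.mk hp
    rw [hcard] at hpc
    obtain ⟨R, -, hR⟩ := exists_maxP (p := p) IsPGroup.of_bot (bot_le : ⊥ ≤ M ⊓ two a b)
    have h1 := hR.card.symm.trans (maxP_of_two hF hNB hBel hab hM hpc hR).card
    have h2 := (Nat.pow_right_injective hp.two_le).eq_iff.mp h1
    rw [← hcard, ← Dm.card_mul_index, Nat.factorization_mul Nat.card_pos.ne' Subgroup.index_ne_zero_of_finite,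
      Finsupp.add_apply] at h2
    have := hp.factorization_pos_of_dvd Subgroup.index_ne_zero_of_finite hpi
    omega
  have hfus : ∀ x ∈ Dm, ∀ y ∈ Dm, IsConj x y → ∃ h ∈ Dm, h * x * h⁻¹ = y := by
    intro x hx y hy hxy
    rcases eq_or_ne x 1 with rfl | hx1
    · exact ⟨1, one_mem _, by simpa using (isConj_one_right.mp hxy).symm⟩
    obtain ⟨m, rfl⟩ := isConj_iff.mp hxy
    have hma : (m : G) • a = a := mem_stabilizer_iff.mp (hM.le m.2)
    have hd : (x : G) • (m : G)⁻¹ • b = (m : G)⁻¹ • b := by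
      have h := (mem_two.mp (hmem.mp hy)).2
      simp only [Subgroup.coe_mul, Subgroup.coe_inv, mul_smul] at h
      exact eq_inv_smul_iff.mpr h
    obtain ⟨g, hgM, hgx, hgb⟩ := exists_move_cent hF hNB hBel hab hM x.2 (hmem.mp hx)
      (fun e => hx1 (Subtype.ext e)) (d := (m : G)⁻¹ • b) (fun e => hab (by
        rw [inv_smul_eq_iff] at e
        exact e.trans hma)) hd
    refine ⟨m * ⟨g, hgM⟩, hmem.mpr (mem_two.mpr ⟨?_, ?_⟩), ?_⟩
    · show ((m : G) * g) • a = a
      rw [mul_smul, mem_stabilizer_iff.mp (hM.le hgM), hma]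
    · show ((m : G) * g) • b = b
      rw [mul_smul, hgb, smul_inv_smul]
    · refine Subtype.ext ?_
      show (m : G) * g * x * ((m : G) * g)⁻¹ = m * x * (m : G)⁻¹
      calc (m : G) * g * x * ((m : G) * g)⁻¹ = m * (g * x) * g⁻¹ * (m : G)⁻¹ := by group
        _ = m * x * (m : G)⁻¹ := by rw [hgx]; group
  have helem : ∀ (E : Subgroup M) (p : ℕ), p.Prime → IsElementary p E → Nat.card E ∣ Nat.card Dm →
      ∃ g : M, E.map (MulAut.conj g).toMonoidHom ≤ Dm := by
    intro E p hp hE hEd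
    haveI := Fact.mk hp
    obtain ⟨z, hz, -, k, hk⟩ := hE
    obtain ⟨P⟩ : Nonempty (Sylow p E) := inferInstance
    have htop : Subgroup.zpowers z ⊔ (P : Subgroup E) = ⊤ := by
      refine Subgroup.index_eq_one.mp ?_
      obtain ⟨j, -, hj⟩ := (Nat.dvd_prime_pow hp).mp (hk ▸ Subgroup.index_dvd_of_le
        (le_sup_left : Subgroup.zpowers z ≤ Subgroup.zpowers z ⊔ (P : Subgroup E)))
      rcases j with _ | j
      · rw [hj, pow_zero]
      · exact absurd ((dvd_pow_self p j.succ_ne_zero).trans (hj ▸ Subgroup.index_dvd_of_le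
          (le_sup_right : (P : Subgroup E) ≤ Subgroup.zpowers z ⊔ (P : Subgroup E)))) P.not_dvd_index
    have hall : ∀ g : M, (g : G) * ((z : M) : G) * (g : G)⁻¹ ∈ two a b →
        (∀ e ∈ (P : Subgroup E), (g : G) * ((e : M) : G) * (g : G)⁻¹ ∈ two a b) →
        E.map (MulAut.conj g).toMonoidHom ≤ Dm := by
      intro g hgz hgP
      have hle : (⊤ : Subgroup E) ≤ Dm.comap ((MulAut.conj g).toMonoidHom.comp E.subtype) := by
        rw [← htop]
        exact sup_le (Subgroup.zpowers_le.mpr hgz) fun e he => hgP e he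
      rintro _ ⟨e, he, rfl⟩
      exact hle (Subgroup.mem_top (⟨e, he⟩ : E))
    set PG : Subgroup G := ((P : Subgroup E).map E.subtype).map M.subtype with hPG
    have hPGp : IsPGroup p PG := (P.2.map _).map _
    have hPGd : Nat.card PG ∣ Nat.card ↥(M ⊓ two a b) := by
      rw [hPG, Subgroup.card_map_of_injective M.subtype_injective,
        Subgroup.card_map_of_injective E.subtype_injective, ← hcard]
      exact (Subgroup.card_subgroup_dvd_card _).trans hEd
    have hPGM : PG ≤ M := Subgroup.map_subtype_le _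
    rcases eq_or_ne z 1 with rfl | hz1
    · obtain ⟨g, hgM, hg⟩ := pgroup_conj hF hNB hBel hab hM hPGp hPGM hPGd
      exact ⟨⟨g, hgM⟩, hall ⟨g, hgM⟩ (by simp) fun e he => hg _ ⟨_, ⟨e, he, rfl⟩, rfl⟩⟩
    obtain ⟨g₀, hg₀, hz'⟩ := elem_conj hF hNB hBel hab hM _ ((z : M) : G) z.1.2 rfl (by
      rw [Subgroup.orderOf_coe, Subgroup.orderOf_coe, ← hcard]
      exact (orderOf_dvd_natCard z).trans hEd)
    set z' := g₀ * ((z : M) : G) * g₀⁻¹
    have hz'1 : z' ≠ 1 := fun e => hz1 (Subtype.ext (Subtype.ext (conj_eq_one_iff.mp e)))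
    rcases eq_or_ne (P : Subgroup E) ⊥ with hP1 | hP1
    · exact ⟨⟨g₀, hg₀⟩, hall ⟨g₀, hg₀⟩ hz' fun e he => by
        rw [hP1, Subgroup.mem_bot] at he
        subst he
        simp⟩
    have hp2 : p ≠ 2 := by
      rintro rfl
      obtain ⟨j, hj⟩ := IsPGroup.iff_card.mp P.2
      have hj0 : j ≠ 0 := fun h => hP1 (Subgroup.card_eq_one.mp (by rw [hj, h, pow_zero]))
      refine Nat.not_even_iff_odd.mpr (odd_two hF hab.symm) (even_iff_two_dvd.mpr ?_)
      exact (dvd_pow_self 2 hj0).trans ((hj ▸ Subgroup.card_subgroup_dvd_card _).trans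
        (hEd.trans (hcard ▸ Subgroup.card_dvd_of_le inf_le_right)))
    obtain ⟨g, hgM, hgz, hg⟩ := conj_into hF hNB hBel hab hM (mul_mem (mul_mem hg₀ z.1.2) (inv_mem hg₀)) hz' hz'1 hp2
      (P := PG.map (MulAut.conj g₀).toMonoidHom) (hPGp.map _)
      (by
        rintro _ ⟨e, he, rfl⟩
        exact mul_mem (mul_mem hg₀ (hPGM he)) (inv_mem hg₀))
      (by
        rintro _ ⟨_, ⟨_, ⟨e, -, rfl⟩, rfl⟩, rfl⟩
        have hc : Commute ((e : M) : G) ((z : M) : G) :=
          (congrArg (fun w : E => ((w : M) : G)) (Subgroup.mem_center_iff.mp hz e) :)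
        exact (hc.map (MulAut.conj g₀).toMonoidHom).eq)
    refine ⟨⟨g⁻¹ * g₀, mul_mem (inv_mem hgM) hg₀⟩, hall _ ?_ fun e he => ?_⟩
    · show g⁻¹ * g₀ * ((z : M) : G) * (g⁻¹ * g₀)⁻¹ ∈ two a b
      rw [show g⁻¹ * g₀ * ((z : M) : G) * (g⁻¹ * g₀)⁻¹ = g⁻¹ * z' * g by simp only [z']; group,
        show g⁻¹ * z' * g = z' by rw [mul_assoc, ← hgz, ← mul_assoc, inv_mul_cancel, one_mul]]
      exact hz'
    · show g⁻¹ * g₀ * ((e : M) : G) * (g⁻¹ * g₀)⁻¹ ∈ two a b
      rw [show g⁻¹ * g₀ * ((e : M) : G) * (g⁻¹ * g₀)⁻¹ = g⁻¹ * (g₀ * ((e : M) : G) * g₀⁻¹) * g by group]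
      exact hg _ ⟨_, ⟨_, ⟨e, he, rfl⟩, rfl⟩, rfl⟩
  obtain ⟨K, hKn, hsup, hinf⟩ := brauer_suzuki_complement Dm hHall hfus helem
  have hcompl : K.IsComplement' Dm := by
    refine Subgroup.isComplement'_of_disjoint_and_mul_eq_univ (disjoint_iff.mpr hinf) ?_
    rw [← Subgroup.normal_mul, hsup, Subgroup.coe_top]
  have hKc : Nat.card K = Dm.index := hcompl.index_eq_card.symm
  have hKi : K.index = Nat.card Dm := hcompl.symm.index_eq_card
  have hchar : ∀ x : M, (orderOf x).Coprime (Nat.card Dm) → x ∈ K := by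
    intro x hx
    rw [← QuotientGroup.eq_one_iff, ← orderOf_eq_one_iff]
    refine Nat.eq_one_of_dvd_coprimes hx (orderOf_map_dvd (QuotientGroup.mk' K) x) ?_
    rw [← hKi, Subgroup.index_eq_card]
    exact orderOf_dvd_natCard _
  have hcop : ∀ x : K, (orderOf (x : M)).Coprime (Nat.card Dm) := fun x => by
    rw [Subgroup.orderOf_coe]
    exact (hKc ▸ hHall.symm).coprime_dvd_left (orderOf_dvd_natCard x)
  refine ⟨K.map M.subtype, Subgroup.map_subtype_le K, ?_, ?_, ?_, ?_⟩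
  · rintro h hh _ ⟨x, hx, rfl⟩
    refine ⟨⟨h * x * h⁻¹, hM.conj_mem h hh x x.2⟩, hchar _ ?_, rfl⟩
    rw [← Subgroup.orderOf_coe, CfsgLib.Involutions.orderOf_conj, Subgroup.orderOf_coe]
    exact hcop ⟨x, hx⟩
  · rw [eq_bot_iff]
    rintro _ ⟨⟨x, hx, rfl⟩, hxD⟩
    exact Subgroup.mem_bot.mpr (congrArg Subtype.val
      (Subgroup.mem_bot.mp (hinf.le (Subgroup.mem_inf.mpr ⟨hx, hmem.mpr hxD⟩))))
  · rw [← hmap, ← Subgroup.map_sup, hsup, ← MonoidHom.range_eq_map, Subgroup.range_subtype]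
  · rw [Subgroup.card_map_of_injective M.subtype_injective, hKc, ← hcard]
    exact hHall.symm

/-- A piece with `M G_ab = G_a` gives Bender's conclusion. -/
theorem good (hcover : M ⊔ two a b = stabilizer G a) : Good G Ω := by
  obtain ⟨Q, hQM, hn, hinf, hsup, -⟩ := exists_complement hF hNB hBel hab hM
  refine good_of_complement hF hNB hab (hQM.trans hM.le) hn hinf (le_antisymm (sup_le (hQM.trans hM.le) inf_le_left) ?_)
  rw [← hcover, ← hsup]
  exact sup_le (sup_le le_sup_left (inf_le_right.trans le_sup_right)) le_sup_right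

end Piece

end CfsgLib.Bender.OneFix
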