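import Cfsg.Agent.Lib.SuzukiRankOne.CharFamily
import Cfsg.Agent.Lib.CharTheory.Linear

/-!
Engel's form of the Cauchy inequality for the weighted coefficient functional at an involution.

Blueprint: `blueprint/bender/A5.md`, section 0, (E).
-/

set_option autoImplicit false
set_option linter.unusedSectionVars false

namespace CfsgLib.Bender.FromB1

open Cfsg CfsgLib.CharTheory CfsgLib.SuzukiRankOne
open scoped ComplexConjugate

universe u

variable {G : Type u} [Group G] [Fintype G]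

/-- A virtual character vanishing at `1` and at an involution `z`, involving the principal character, with weighted
coefficient sum zero, whose coefficients apart from one are non-negative, has a non-principal constituent with `z` in
its kernel. -/
theorem exists_kernel_constituent {F : G → ℂ} (hF : IsGeneralizedCharacter G F) {z : G} (hz : z * z = 1)
    (h0 : classInner F (fun _ : G => (1 : ℂ)) ≠ 0) (h1 : F 1 = 0) (hFz : F z = 0) (hwt : wt z F = 0)
    (ψ : IrrCharacter G) (hsign : ∀ φ : IrrCharacter G, φ ≠ ψ → 0 ≤ (classInner F (φ : G → ℂ)).re) :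
    ∃ φ : IrrCharacter G, (φ : G → ℂ) ≠ (fun _ : G => (1 : ℂ)) ∧ classInner F (φ : G → ℂ) ≠ 0 ∧
      (φ : G → ℂ) z = (φ : G → ℂ) 1 := by
  classical
  obtain ⟨c, hFc, hc, -⟩ := classInner_self_eq_sum_sq hF
  choose d hd hdeq using fun φ : IrrCharacter G => irr_degree_pos φ.2
  set x : IrrCharacter G → ℝ := fun φ => ((φ : G → ℂ) z).re
  have hx : ∀ φ : IrrCharacter G, (φ : G → ℂ) z = (x φ : ℂ) := fun φ =>
    (apply_invol_real (isCharacter_of_irr φ.2) hz).symm
  have e1 : ∑ φ : IrrCharacter G, (c φ : ℝ) * (d φ : ℝ) = 0 := by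
    have h := congrFun hFc 1
    simp only [h1, Finset.sum_apply, Pi.smul_apply, smul_eq_mul, hdeq] at h
    exact_mod_cast h.symm
  have e2 : ∑ φ : IrrCharacter G, (c φ : ℝ) * x φ = 0 := by
    have h := congrFun hFc z
    simp only [hFz, Finset.sum_apply, Pi.smul_apply, smul_eq_mul, hx] at h
    exact_mod_cast h.symm
  have e3 : ∑ φ : IrrCharacter G, (c φ : ℝ) * (x φ ^ 2 / d φ) = 0 := by
    have h := hwt
    simp only [wt, hc, hdeq, hx] at h
    exact_mod_cast h
  set r := x ψ / d ψ with hr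
  have hd' : ∀ φ, (0 : ℝ) < d φ := fun φ => Nat.cast_pos.mpr (hd φ)
  have e4 : ∑ φ : IrrCharacter G, (c φ : ℝ) * ((x φ - r * d φ) ^ 2 / d φ) = 0 := by
    have he : ∀ φ : IrrCharacter G, (c φ : ℝ) * ((x φ - r * d φ) ^ 2 / d φ) =
        (c φ : ℝ) * (x φ ^ 2 / d φ) - 2 * r * ((c φ : ℝ) * x φ) + r ^ 2 * ((c φ : ℝ) * d φ) := fun φ => by
      field_simp [(hd' φ).ne']
      ring
    rw [Finset.sum_congr rfl fun φ _ => he φ, Finset.sum_add_distrib, Finset.sum_sub_distrib, ← Finset.mul_sum,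
      ← Finset.mul_sum, e1, e2, e3]
    ring
  have hnn : ∀ φ ∈ (Finset.univ : Finset (IrrCharacter G)), 0 ≤ (c φ : ℝ) * ((x φ - r * d φ) ^ 2 / d φ) := by
    intro φ _
    rcases eq_or_ne φ ψ with rfl | hne
    · rw [hr, div_mul_cancel₀ _ (hd' φ).ne']
      simp
    · refine mul_nonneg ?_ (div_nonneg (sq_nonneg _) (hd' φ).le)
      have := hsign φ hne
      rwa [hc, Complex.intCast_re] at this
  have hall := (Finset.sum_eq_zero_iff_of_nonneg hnn).mp e4
  have hratio : ∀ φ : IrrCharacter G, c φ ≠ 0 → x φ = r * d φ := fun φ hφ => by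
    rcases mul_eq_zero.mp (hall φ (Finset.mem_univ φ)) with h | h
    · exact absurd (Int.cast_eq_zero.mp h) hφ
    · rcases div_eq_zero_iff.mp h with h | h
      · exact sub_eq_zero.mp (pow_eq_zero_iff two_ne_zero |>.mp h)
      · exact absurd h (hd' φ).ne'
  let one : IrrCharacter G := ⟨fun _ => 1, isIrrCharacter_one⟩
  have hc1 : c one ≠ 0 := fun e => h0 (by rw [show (fun _ : G => (1 : ℂ)) = (one : G → ℂ) from rfl, hc, e, Int.cast_zero])
  have hd1 : d one = 1 := Nat.cast_inj.mp ((hdeq one).symm.trans Nat.cast_one.symm)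
  have hr1 : r = 1 := by
    have := hratio one hc1
    rw [hd1, Nat.cast_one, mul_one] at this
    rw [← this]
    exact Complex.one_re
  obtain ⟨φ, hne, hφ⟩ : ∃ φ : IrrCharacter G, φ ≠ one ∧ c φ ≠ 0 := by
    by_contra h
    push Not at h
    rw [Finset.sum_eq_single one (fun φ _ hφ => by simp [h φ hφ]) (by simp), hd1, Nat.cast_one, mul_one] at e1
    exact hc1 (Int.cast_eq_zero.mp e1)
  refine ⟨φ, fun e => hne (Subtype.ext e), ?_, ?_⟩
  · rw [hc]; exact Int.cast_ne_zero.mpr hφ
  · rw [hx, hdeq, hratio φ hφ, hr1, one_mul, Complex.ofReal_natCast]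

/-- The contradiction when no proper normal subgroup contains `z`, the coefficients but one having the same sign. -/
theorem engel {F : G → ℂ} (hF : IsGeneralizedCharacter G F) {z : G} (hz : z * z = 1)
    (h0 : classInner F (fun _ : G => (1 : ℂ)) ≠ 0) (h1 : F 1 = 0) (hFz : F z = 0) (hwt : wt z F = 0)
    (hG : ∀ N : Subgroup G, N.Normal → z ∈ N → N = ⊤) (ψ : IrrCharacter G)
    (hsign : (∀ φ : IrrCharacter G, φ ≠ ψ → 0 ≤ (classInner F (φ : G → ℂ)).re) ∨
      (∀ φ : IrrCharacter G, φ ≠ ψ → (classInner F (φ : G → ℂ)).re ≤ 0)) : False := by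
  have key : ∀ {F : G → ℂ}, IsGeneralizedCharacter G F → classInner F (fun _ : G => (1 : ℂ)) ≠ 0 → F 1 = 0 →
      F z = 0 → wt z F = 0 →
      (∀ φ : IrrCharacter G, φ ≠ ψ → 0 ≤ (classInner F (φ : G → ℂ)).re) → False := by
    intro F hF h0 h1 hFz hwt hs
    obtain ⟨φ, hne, -, hφz⟩ := exists_kernel_constituent hF hz h0 h1 hFz hwt ψ hs
    have htop := hG _ (charKernel_normal _ (isCharacter_of_irr φ.2))
      ((mem_charKernel (isCharacter_of_irr φ.2) z).mpr hφz)
    exact hne (irr_eq_one_of_kernel_top φ.2 fun g =>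
      (mem_charKernel (isCharacter_of_irr φ.2) g).mp (htop ▸ Subgroup.mem_top g))
  rcases hsign with hs | hs
  · exact key hF h0 h1 hFz hwt hs
  · refine key (isGenChar_neg hF) (by rw [classInner_neg_left]; exact neg_ne_zero.mpr h0) (by simp [h1])
      (by simp [hFz]) (by rw [← neg_one_smul ℂ F, wt_smul, hwt, mul_zero]) fun φ hφ => ?_
    rw [classInner_neg_left, Complex.neg_re]
    exact neg_nonneg.mpr (hs φ hφ)

/-- Engel's form kills every such virtual character of norm at most three. -/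
theorem engel_norm_le_three {F : G → ℂ} (hF : IsGeneralizedCharacter G F) {z : G} (hz : z * z = 1)
    (h0 : classInner F (fun _ : G => (1 : ℂ)) ≠ 0) (h1 : F 1 = 0) (hFz : F z = 0) (hwt : wt z F = 0)
    (hG : ∀ N : Subgroup G, N.Normal → z ∈ N → N = ⊤) (h3 : (classInner F F).re ≤ 3) : False := by
  classical
  obtain ⟨c, -, hc, hsq⟩ := classInner_self_eq_sum_sq hF
  rw [hsq, Complex.intCast_re] at h3
  have h3' : ∑ φ : IrrCharacter G, c φ ^ 2 ≤ 3 := by exact_mod_cast h3
  have hre : ∀ φ : IrrCharacter G, (classInner F (φ : G → ℂ)).re = (c φ : ℝ) := fun φ => by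
    rw [hc, Complex.intCast_re]
  let one : IrrCharacter G := ⟨fun _ => 1, isIrrCharacter_one⟩
  have key : ∀ s : IrrCharacter G → Prop, (∃ ψ, ∀ φ, s φ → φ = ψ) ∨ ∃ p q, p ≠ q ∧ s p ∧ s q := by
    intro s
    by_cases h : ∃ p, s p
    · obtain ⟨p, hp⟩ := h
      by_cases hq : ∃ q, s q ∧ q ≠ p
      · obtain ⟨q, hq, hne⟩ := hq
        exact Or.inr ⟨p, q, hne.symm, hp, hq⟩
      · push Not at hq
        exact Or.inl ⟨p, hq⟩
    · exact Or.inl ⟨one, fun φ hφ => absurd ⟨φ, hφ⟩ h⟩
  rcases key (fun φ => c φ < 0) with ⟨ψ, hψ⟩ | ⟨p, q, hpq, hp, hq⟩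
  · refine engel hF hz h0 h1 hFz hwt hG ψ (Or.inl fun φ hφ => ?_)
    rw [hre]
    exact_mod_cast not_lt.mp fun h => hφ (hψ φ h)
  rcases key (fun φ => 0 < c φ) with ⟨ψ, hψ⟩ | ⟨r, t, hrt, hr, ht⟩
  · refine engel hF hz h0 h1 hFz hwt hG ψ (Or.inr fun φ hφ => ?_)
    rw [hre]
    exact_mod_cast not_lt.mp fun h => hφ (hψ φ h)
  have hsub := Finset.sum_le_sum_of_subset_of_nonneg (s := {p, q, r, t}) (t := Finset.univ)
    (Finset.subset_univ _) (fun i _ _ => sq_nonneg (c i))
  have n1 : p ≠ r := fun e => by subst e; omega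
  have n2 : p ≠ t := fun e => by subst e; omega
  have n3 : q ≠ r := fun e => by subst e; omega
  have n4 : q ≠ t := fun e => by subst e; omega
  rw [Finset.sum_insert (by simp [hpq, n1, n2]), Finset.sum_insert (by simp [n3, n4]),
    Finset.sum_insert (by simpa using hrt), Finset.sum_singleton] at hsub
  nlinarith

end CfsgLib.Bender.FromB1
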