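import Cfsg.Agent.Lib.Bender.OneFix.KOne
import Cfsg.Agent.Lib.SuzukiRankOne.CharFamily
import Cfsg.Agent.Lib.CharTheory.Linear
import Mathlib.GroupTheory.Abelianization.Defs
import Mathlib.RingTheory.RootsOfUnity.AlgebraicallyClosed

/-!
Class functions of a point stabiliser vanishing on all two-point stabilisers lift isometrically.

Blueprint: `blueprint/bender/A5.md`, section 0, (L).
-/

set_option autoImplicit false
set_option linter.unusedSectionVars false
set_option linter.style.haveILetI false

namespace CfsgLib.Bender.OneFix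

open MulAction Cfsg CfsgLib.CharTheory CfsgLib.Bender.TwoClosed
open CfsgLib.SuzukiRankOne (Sup sup_TI wt)
open scoped ComplexConjugate

universe u v

/-- The weighted coefficient sum as an average over pairs of conjugates. -/
theorem card_sq_mul_wt {K : Type u} [Group K] [Fintype K] {f : K → ℂ} (hf : IsClassFunction K f) (s : K) :
    (Nat.card K : ℂ) ^ 2 * wt s f = ∑ k : K, ∑ l : K, f (k * s * k⁻¹ * (l * s * l⁻¹)) := by
  classical
  have hφ : ∀ φ : IrrCharacter K, ∑ k : K, ∑ l : K, (φ : K → ℂ) (k * s * k⁻¹ * (l * s * l⁻¹)) =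
      (Nat.card K : ℂ) ^ 2 * ((φ : K → ℂ) s ^ 2 / (φ : K → ℂ) 1) := fun φ => by
    rw [Finset.sum_comm]
    have h : ∀ l : K, ∑ k : K, (φ : K → ℂ) (k * s * k⁻¹ * (l * s * l⁻¹)) =
        (Nat.card K : ℂ) * ((φ : K → ℂ) s * (φ : K → ℂ) s) / (φ : K → ℂ) 1 := fun l => by
      rw [sum_conj_mul_char φ.2 s, isClassFunction_irr φ.2 s l]
    rw [Finset.sum_congr rfl fun l _ => h l, Finset.sum_const, Finset.card_univ, nsmul_eq_mul,
      ← Nat.card_eq_fintype_card]
    ring
  calc (Nat.card K : ℂ) ^ 2 * wt s f
      = ∑ φ : IrrCharacter K, classInner f (φ : K → ℂ) *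
          ∑ k : K, ∑ l : K, (φ : K → ℂ) (k * s * k⁻¹ * (l * s * l⁻¹)) := by
        rw [wt, Finset.mul_sum]
        exact Finset.sum_congr rfl fun φ _ => by rw [hφ]; ring
    _ = ∑ k : K, ∑ l : K, ∑ φ : IrrCharacter K,
          classInner f (φ : K → ℂ) * (φ : K → ℂ) (k * s * k⁻¹ * (l * s * l⁻¹)) := by
        simp only [Finset.mul_sum]
        rw [Finset.sum_comm]
        exact Finset.sum_congr rfl fun k _ => Finset.sum_comm
    _ = _ := by
        refine Finset.sum_congr rfl fun k _ => Finset.sum_congr rfl fun l _ => ?_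
        conv_rhs => rw [eq_sum_irr hf]
        simp [Finset.sum_apply]

variable {G : Type u} {Ω : Type v} [Group G] [MulAction G Ω] {a b : Ω}

/-- A function on a point stabiliser vanishing on the elements with a second fixed point. -/
def VanishTwo (a : Ω) (f : stabilizer G a → ℂ) : Prop :=
  ∀ (x : stabilizer G a) (c : Ω), c ≠ a → (x : G) • c = c → f x = 0

theorem VanishTwo.off_sup {f : stabilizer G a → ℂ} (hv : VanishTwo a f) (x : stabilizer G a)
    (hx : (x : G) ∉ Sup G a) : f x = 0 := by
  have h : ¬ ∀ c : Ω, (x : G) • c = c → c = a := fun h => hx ⟨mem_stabilizer_iff.mp x.2, h⟩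
  push Not at h
  obtain ⟨c, hc, hca⟩ := h
  exact hv x c hca hc

variable [Fintype G] [FaithfulSMul G Ω] (hF : OneFix G Ω)
include hF

theorem VanishTwo.apply_one {f : stabilizer G a → ℂ} (hv : VanishTwo a f) : f 1 = 0 := by
  obtain ⟨b, hb⟩ := exists_ne hF a
  exact hv 1 b hb (one_smul G b)

section Lift

variable [Fintype (stabilizer G a)] {f : stabilizer G a → ℂ} (hf : IsClassFunction (stabilizer G a) f)
  (hv : VanishTwo a f)
include hf hv

theorem lift_one : indFun (stabilizer G a) f 1 = 0 := by
  rw [indFun_apply_one, hv.apply_one hF, mul_zero]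

/-- The lift agrees with the function on the point stabiliser. -/
theorem lift_apply (x : stabilizer G a) : indFun (stabilizer G a) f x = f x := by
  by_cases hx : (x : G) ∈ Sup G a
  · exact indFun_apply_of_TI (stabilizer G a) (Sup G a) sup_TI hf hv.off_sup (hv.apply_one hF) x hx
  rw [hv.off_sup x hx]
  simp only [indFun]
  refine mul_eq_zero_of_right _ (Finset.sum_eq_zero fun y _ => ?_)
  by_cases hmem : y⁻¹ * (x : G) * y ∈ stabilizer G a
  swap
  · exact extendByZero_of_not_mem _ _ hmem
  rw [extendByZero_of_mem _ _ hmem]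
  refine hv.off_sup _ fun hs => hx ?_
  have h1 : ∀ c : Ω, (x : G) • c = c → c = y • a := fun c hc => by
    have h := hs.2 (y⁻¹ • c) (by rw [mul_smul, mul_smul, smul_inv_smul, hc])
    exact inv_smul_eq_iff.mp h
  have hya : a = y • a := h1 a (mem_stabilizer_iff.mp x.2)
  exact ⟨mem_stabilizer_iff.mp x.2, fun c hc => (h1 c hc).trans hya.symm⟩

/-- Induction is an isometry on these functions. -/
theorem lift_inner {f' : stabilizer G a → ℂ} (hv' : VanishTwo a f') :
    classInner (indFun (stabilizer G a) f') (indFun (stabilizer G a) f) = classInner f' f :=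
  classInner_indFun_of_TI (stabilizer G a) (Sup G a) sup_TI hf hv'.off_sup hv.off_sup (hv.apply_one hF)

/-- The multiplicity of the principal character is unchanged. -/
theorem lift_principal :
    classInner (indFun (stabilizer G a) f) (fun _ : G => (1 : ℂ)) =
      classInner f (fun _ : stabilizer G a => (1 : ℂ)) :=
  frobenius_reciprocity _ f fun _ _ => rfl

/-- The weighted coefficient sums at an involution of `G_a` correspond. -/
theorem wt_lift (s : stabilizer G a) (hs : IsInv (s : G)) :
    ((stabilizer G a).index : ℂ) * wt (s : G) (indFun (stabilizer G a) f) = wt s f := by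
  classical
  set P : G → G → G := fun k l => k * (s : G) * k⁻¹ * (l * (s : G) * l⁻¹) with hP
  set f0 := extendByZero (stabilizer G a) f with hf0
  have hsa : (s : G) • a = a := mem_stabilizer_iff.mp s.2
  have hzero : ∀ k l : G, f0 (P k l) ≠ 0 → k ∈ (stabilizer G a) ∧ l ∈ (stabilizer G a) := by
    intro k l hne
    have hmem : P k l ∈ (stabilizer G a) := by
      by_contra h
      exact hne (extendByZero_of_not_mem _ _ h)
    rw [hf0, extendByZero_of_mem _ _ hmem] at hne
    have hS : P k l ∈ Sup G a := by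
      by_contra h
      exact hne (hv.off_sup ⟨_, hmem⟩ h)
    set s1 := k * (s : G) * k⁻¹ with hs1
    set s2 := l * (s : G) * l⁻¹ with hs2
    have h1 : IsInv s1 := hs.conj k
    have h2 : IsInv s2 := hs.conj l
    have hx : (s1 * s2) • a = a := hS.1
    have hfix : (s1 * s2) • s1 • a = s1 • a := by
      have h3 : s2 • s1 • a = a := by
        have h4 := congrArg ((s2 * s1) • ·) hx
        simp only [← mul_smul] at h4
        rw [show s2 * s1 * (s1 * s2) = 1 by rw [mul_assoc, ← mul_assoc s1, h1.2, one_mul, h2.2], one_smul,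
          mul_smul] at h4
        exact h4.symm
      rw [mul_smul, h3]
    have h1a : s1 • a = a := hS.2 _ hfix
    have h2a : s2 • a = a := by
      have h3 := congrArg (s1 • ·) hx
      simp only [mul_smul, h1.smul_twice, h1a] at h3
      exact h3
    exact ⟨mem_stabilizer_iff.mpr (eq_of_fix hF h1 (smul_conj hsa) h1a),
      mem_stabilizer_iff.mpr (eq_of_fix hF h2 (smul_conj hsa) h2a)⟩
  have hshift : ∀ y : G, ∑ k : G, ∑ l : G, f0 (y⁻¹ * P k l * y) = ∑ k : G, ∑ l : G, f0 (P k l) := fun y =>
    Fintype.sum_equiv (Equiv.mulLeft y⁻¹) _ _ fun k =>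
      Fintype.sum_equiv (Equiv.mulLeft y⁻¹) _ _ fun l => congrArg f0 (by simp [hP, mul_assoc])
  have hres : ∑ k : G, ∑ l : G, f0 (P k l) = ∑ k : (stabilizer G a), ∑ l : (stabilizer G a), f (k * s * k⁻¹ * (l * s * l⁻¹)) := by
    have hin : ∀ (g : G → ℂ), (∀ k, g k ≠ 0 → k ∈ (stabilizer G a)) → ∑ k : G, g k = ∑ k : (stabilizer G a), g k := fun g hg => by
      rw [← Finset.sum_filter_of_ne (p := (· ∈ (stabilizer G a))) fun k _ h => hg k h]
      exact Finset.sum_subtype _ (fun k => by simp) g
    rw [hin _ fun k hk => ?_]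
    · refine Finset.sum_congr rfl fun k _ => ?_
      rw [hin _ fun l hl => (hzero _ l hl).2]
      refine Finset.sum_congr rfl fun l _ => ?_
      exact extendByZero_coe (stabilizer G a) f (k * s * k⁻¹ * (l * s * l⁻¹))
    · obtain ⟨l, -, hl⟩ := Finset.exists_ne_zero_of_sum_ne_zero hk
      exact (hzero k l hl).1
  have hmain : (Nat.card G : ℂ) ^ 2 * wt (s : G) (indFun (stabilizer G a) f) =
      ((stabilizer G a).index : ℂ) * ((Nat.card (stabilizer G a) : ℂ) ^ 2 * wt s f) := by
    rw [card_sq_mul_wt (indFun_isClassFunction (stabilizer G a) f), card_sq_mul_wt hf, ← hres]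
    simp only [indFun, ← Finset.mul_sum]
    rw [Finset.sum_congr rfl fun k _ => Finset.sum_comm, Finset.sum_comm,
      Finset.sum_congr rfl fun y _ => hshift y, Finset.sum_const, Finset.card_univ, nsmul_eq_mul,
      ← Nat.card_eq_fintype_card, ← (stabilizer G a).card_mul_index]
    have h0 : (Nat.card (stabilizer G a) : ℂ) ≠ 0 := Nat.cast_ne_zero.mpr Nat.card_pos.ne'
    push_cast
    field_simp
  have h0 : (Nat.card (stabilizer G a) : ℂ) ≠ 0 := Nat.cast_ne_zero.mpr Nat.card_pos.ne'
  have hi : ((stabilizer G a).index : ℂ) ≠ 0 := Nat.cast_ne_zero.mpr Subgroup.index_ne_zero_of_finite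
  rw [← (stabilizer G a).card_mul_index] at hmain
  push_cast at hmain
  refine mul_left_cancel₀ (mul_ne_zero hi (pow_ne_zero 2 h0)) ?_
  linear_combination hmain

end Lift

/-- A linear character of a point stabiliser trivial on all two-point stabilisers extends. -/
theorem exists_linear_extension [Fintype (stabilizer G a)] (lam : stabilizer G a →* ℂˣ)
    (hlam : ∀ (x : stabilizer G a) (c : Ω), c ≠ a → (x : G) • c = c → lam x = 1) :
    ∃ μ : G →* ℂˣ, ∀ x : stabilizer G a, μ x = lam x := by
  classical
  by_cases h1 : lam = 1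
  · exact ⟨1, fun x => by rw [h1]; rfl⟩
  set χ : stabilizer G a → ℂ := fun x => (lam x : ℂ) with hχ
  set one : stabilizer G a → ℂ := fun _ => 1 with hone
  have hχi : IsIrrCharacter (stabilizer G a) χ := isIrrCharacter_linear lam
  have honei : IsIrrCharacter (stabilizer G a) one := isIrrCharacter_one
  have hne : χ ≠ one := fun e => h1 (MonoidHom.ext fun x => Units.ext (congrFun e x))
  set f := χ - one with hfdef
  have hf : IsClassFunction (stabilizer G a) f :=
    isClassFunction_sub (isClassFunction_irr hχi) (isClassFunction_irr honei)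
  have hv : VanishTwo a f := fun x c hc hxc => by
    simp [hfdef, hχ, hone, hlam x c hc hxc]
  have hgen : IsGeneralizedCharacter (stabilizer G a) f :=
    isGenChar_sub (isGenChar_of_char (isCharacter_of_irr hχi)) (isGenChar_of_char (isCharacter_of_irr honei))
  have hff : classInner f f = 2 := by
    rw [hfdef, classInner_sub_left, classInner_sub_right, classInner_sub_right, classInner_irr_self hχi,
      classInner_irr_self honei, classInner_irr_ne hχi honei hne, classInner_irr_ne honei hχi hne.symm]
    norm_num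
  obtain ⟨A, B, hA, hB, hAB, hτ⟩ := exists_eq_irr_sub_irr (isGenChar_indFun _ hgen)
    (by rw [lift_inner hF hf hv hv, hff]) (lift_one hF hf hv)
  have hp := lift_principal hF hf hv
  rw [hτ, hfdef, classInner_sub_left, classInner_sub_left, classInner_irr hA isIrrCharacter_one,
    classInner_irr hB isIrrCharacter_one, classInner_irr_ne hχi honei hne, classInner_irr_self honei] at hp
  have hB1 : B = fun _ => 1 := by
    by_contra hB1
    rw [if_neg hB1] at hp
    split_ifs at hp <;> norm_num at hp
  have hA1 : A 1 = 1 := by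
    have h := lift_one hF hf hv
    rw [hτ, hB1] at h
    exact sub_eq_zero.mp h
  obtain ⟨μ, hμ⟩ := exists_hom_of_degree_one (isCharacter_of_irr hA) hA1
  refine ⟨μ, fun x => Units.ext ?_⟩
  have h := lift_apply hF hf hv x
  rw [hτ, hB1, hμ] at h
  simpa [hfdef, hχ, hone] using h

/-- In a perfect group a point stabiliser is generated by a two-point stabiliser and its derived group. -/
theorem stab_eq_two_sup_commutator (hNB : NoBad G Ω) (hperf : commutator G = ⊤) (hb : b ≠ a) :
    (two a b).subgroupOf (stabilizer G a) ⊔ commutator (stabilizer G a) = ⊤ := by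
  classical
  set H := stabilizer G a with hH
  set K := (two a b).subgroupOf H ⊔ commutator H with hK
  haveI : K.Normal := Subgroup.Normal.of_commutator_le H le_sup_right
  letI : CommGroup (H ⧸ K) :=
    { (inferInstance : Group (H ⧸ K)) with
      mul_comm := (Subgroup.Normal.quotient_commutative_iff_commutator_le.mpr le_sup_right).is_comm.comm }
  by_contra hne
  haveI : Nontrivial (H ⧸ K) := QuotientGroup.nontrivial_iff.mpr hne
  obtain ⟨q, hq⟩ := _root_.exists_ne (1 : H ⧸ K)
  haveI : NeZero (Monoid.exponent (H ⧸ K)) := ⟨Monoid.exponent_ne_zero_of_finite⟩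
  obtain ⟨φ, hφ⟩ := CommGroup.exists_apply_ne_one_of_hasEnoughRootsOfUnity (H ⧸ K) ℂ hq
  set lam : H →* ℂˣ := φ.comp (QuotientGroup.mk' K) with hlamdef
  have hlam : ∀ (x : H) (c : Ω), c ≠ a → (x : G) • c = c → lam x = 1 := by
    intro x c hc hxc
    obtain ⟨h, hha, hhb⟩ := transitive_stab hF hNB hb hc
    set h' : H := ⟨h, mem_stabilizer_iff.mpr hha⟩
    have hmem : h'⁻¹ * x * h' ∈ K := Subgroup.mem_sup_left (Subgroup.mem_subgroupOf.mpr (mem_two.mpr
      ⟨mem_stabilizer_iff.mp (h'⁻¹ * x * h').2, by
        show (h⁻¹ * (x : G) * h) • b = b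
        rw [mul_smul, mul_smul, hhb, hxc, inv_smul_eq_iff, hhb]⟩))
    have h1 : lam (h'⁻¹ * x * h') = 1 := by
      rw [hlamdef, MonoidHom.comp_apply, QuotientGroup.mk'_apply, (QuotientGroup.eq_one_iff _).mpr hmem, map_one]
    rw [map_mul, map_mul, map_inv, mul_comm, mul_inv_cancel_left] at h1
    exact h1
  haveI := Fintype.ofFinite H
  obtain ⟨μ, hμ⟩ := exists_linear_extension hF lam hlam
  have hμ1 : ∀ g : G, μ g = 1 := fun g => by
    have h : commutator G ≤ μ.ker := Abelianization.commutator_subset_ker μ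
    exact MonoidHom.mem_ker.mp (h (hperf ▸ Subgroup.mem_top g))
  obtain ⟨x, rfl⟩ := QuotientGroup.mk'_surjective K q
  exact hφ ((hμ x).symm.trans (hμ1 x))

end CfsgLib.Bender.OneFix
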