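import Cfsg.Agent.Lib.Bender.FromB1.Centres

/-!
Lifting the regular 2-group of the centraliser of an element with three fixed points.

The centraliser acts on the fixed points as a Bender group. An element of its regular normal 2-subgroup at a point
lifts to a 2-element of the centraliser in `G`, and the points fixed by a commuting element correspond to a subgroup.
-/

set_option autoImplicit false
set_option linter.unusedSectionVars false
set_option linter.style.haveILetI false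

namespace CfsgLib.Bender.OneFix

open MulAction Cfsg CfsgLib.Bender.TwoClosed
open CfsgLib.Bender.B1 (Good FourIn centres centresPerm centresPerm_eq_one)

universe u

/-- An element fixes a third point besides `a` and `b`. -/
def Third {G Ω : Type*} [Group G] [MulAction G Ω] (a b : Ω) (y : G) : Prop :=
  ∃ c : Ω, c ≠ a ∧ c ≠ b ∧ y • c = c

/-- An element with image of 2-power order has a power of 2-power order with the same image. -/
theorem exists_two_lift {C K : Type*} [Group C] [Finite C] [Group K] (φ : C →* K) {g : C} {k : ℕ}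
    (hk : φ g ^ 2 ^ k = 1) : ∃ g' : C, φ g' = φ g ∧ ∃ i : ℕ, g' ^ 2 ^ i = 1 := by
  obtain ⟨i, r, hr, ho⟩ := Nat.exists_eq_pow_mul_and_not_dvd (orderOf_pos g).ne' 2 (by norm_num)
  have hcop : Nat.Coprime r (2 ^ k) := ((Nat.prime_two.coprime_iff_not_dvd.mpr hr).symm).pow_right k
  have hbez : (1 : ℤ) = (r : ℤ) * Nat.gcdA r (2 ^ k) + ((2 ^ k : ℕ) : ℤ) * Nat.gcdB r (2 ^ k) := by
    rw [← Nat.gcd_eq_gcd_ab, hcop.gcd_eq_one, Nat.cast_one]
  refine ⟨g ^ ((r : ℤ) * Nat.gcdA r (2 ^ k)), ?_, i, ?_⟩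
  · conv_rhs => rw [← zpow_one (φ g), hbez, zpow_add]
    rw [map_zpow, zpow_mul (φ g) ((2 ^ k : ℕ) : ℤ), zpow_natCast (φ g) (2 ^ k), hk, one_zpow, mul_one]
  · rw [← zpow_natCast (g ^ _), ← zpow_mul, mul_comm, ← mul_assoc, zpow_mul, ← Nat.cast_mul, ← ho,
      zpow_natCast, pow_orderOf_eq_one, one_zpow]

variable {G Ω : Type u} [Group G] [MulAction G Ω] [Finite G] [FaithfulSMul G Ω] (hF : OneFix G Ω)
  (hNB : NoBad G Ω) (hBel : B1.Below.{u} (Nat.card G)) {a b : Ω} (hab : b ≠ a) {y : G} (hy : y ∈ two a b)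
  (hp : (orderOf y).Prime) (h3 : Third a b y) (h4 : FourIn (Subgroup.centralizer (Subgroup.zpowers y : Set G)))
include hF hNB hBel hab hy hp h3 h4

theorem centraliser_setup :
    ∃ (C : Subgroup G) (_ : ∀ x, x ∈ C ↔ x * y = y * x) (_ : ∀ d, d ∈ centres Ω C ↔ y • d = d)
      (A : centres Ω C) (t : (centresPerm Ω C).range) (Q : Subgroup (centresPerm Ω C).range),
      (A : Ω) = a ∧ IsRankOneSetup (centresPerm Ω C).range (centres Ω C) A t Q ∧ IsPGroup 2 Q := by
  haveI := Fact.mk hp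
  obtain ⟨e, hea, heb, hey⟩ := h3
  obtain ⟨hya, hyb⟩ := mem_two.mp hy
  have hp2 : orderOf y ≠ 2 := fun e => by
    have := odd_orderOf (odd_two hF hab.symm) hy
    rw [e] at this
    exact absurd this (by decide)
  have hX : IsPGroup (orderOf y) (Subgroup.zpowers y) :=
    IsPGroup.of_card (n := 1) (by rw [Nat.card_zpowers, pow_one])
  have hfix : ∀ {c : Ω}, c ∈ fixSet Ω (Subgroup.zpowers y) ↔ y • c = c := fun {c} =>
    ⟨fun h => h y (Subgroup.mem_zpowers y), fun h x hx =>
      mem_stabilizer_iff.mp (Subgroup.zpowers_le.mpr (mem_stabilizer_iff.mpr h) hx)⟩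
  set C := Subgroup.centralizer (Subgroup.zpowers y : Set G) with hCdef
  have hC : ∀ x, x ∈ C ↔ x * y = y * x := fun x => by
    rw [hCdef, Subgroup.zpowers_eq_closure, Subgroup.centralizer_closure,
      Subgroup.mem_centralizer_singleton_iff]
  have hcen : centres Ω C = fixSet Ω (Subgroup.zpowers y) :=
    centres_cent hF hNB hp2 hX (hfix.mpr hya) (hfix.mpr hyb) (hfix.mpr hey) hab.symm hea.symm heb.symm
  have hmem : ∀ d, d ∈ centres Ω C ↔ y • d = d := fun d => by rw [hcen]; exact hfix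
  have hCtop : C ≠ ⊤ := fun h => by
    haveI : (Subgroup.zpowers y).Normal := ⟨fun x hx g => by
      have hg : g ∈ C := h ▸ Subgroup.mem_top g
      rw [← hg x hx, mul_inv_cancel_right]
      exact hx⟩
    have h1 := B1.eq_bot_of_normal hF (N := Subgroup.zpowers y) (a := a) (hfix.mpr hya)
    exact hp.one_lt.ne' (orderOf_eq_one_iff.mpr (Subgroup.zpowers_eq_bot.mp h1))
  obtain ⟨t, Q, hS, hQ⟩ :=
    B1.good_centres hF hBel hCtop h4 ((hmem a).mpr hya) ((hmem b).mpr hyb) hab ⟨a, (hmem a).mpr hya⟩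
  exact ⟨C, hC, hmem, _, t, Q, rfl, hS, hQ⟩

/-- A 2-element of `C_G(y)_a` moves `b` to a prescribed fixed point of `y`. Up to elements trivial on the fixed
points of `y` it commutes with whatever commutes with `y` and fixes `a`, `b` and that point. -/
theorem exists_lift {d : Ω} (hda : d ≠ a) (hd : y • d = d) :
    ∃ g : G, g • a = a ∧ g * y = y * g ∧ (∃ k : ℕ, g ^ 2 ^ k = 1) ∧ g • b = d ∧
      ∀ x : G, x * y = y * x → x • a = a → x • b = b → x • d = d → ∀ e : Ω, y • e = e →
        (g * x * g⁻¹ * x⁻¹) • e = e := by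
  obtain ⟨C, hC, hmem, A, t, Q, hA, hS, hQ⟩ := centraliser_setup hF hNB hBel hab hy hp h3 h4
  haveI : Finite (centresPerm Ω C).range := Finite.of_surjective _ (MonoidHom.rangeRestrict_surjective _)
  let B : centres Ω C := ⟨b, (hmem b).mpr (mem_two.mp hy).2⟩
  let E : centres Ω C := ⟨d, (hmem d).mpr hd⟩
  have hB : B ≠ A := fun e => hab ((congrArg Subtype.val e).trans hA)
  have hE : E ≠ A := fun e => hda ((congrArg Subtype.val e).trans hA)
  obtain ⟨⟨q, hq⟩, hqb, huniq⟩ := RankOne.exists_unique_Q hS hB hE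
  obtain ⟨k, hk⟩ := hQ ⟨q, hq⟩
  obtain ⟨g0, hg0⟩ := q.2
  obtain ⟨g, hg, i, hi⟩ := exists_two_lift (centresPerm Ω C) (g := g0) (k := k) (by
    rw [hg0]
    exact congrArg (fun w : Q => ((w : (centresPerm Ω C).range) : Equiv.Perm (centres Ω C))) hk)
  rw [hg0] at hg
  have hgq : (⟨centresPerm Ω C g, g, rfl⟩ : (centresPerm Ω C).range) = q := Subtype.ext hg
  refine ⟨g, ?_, (hC g).mp g.2, ⟨i, congrArg Subtype.val hi⟩, ?_, ?_⟩
  · have h := congrArg Subtype.val (RankOne.mem_Q_a hS hq)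
    rw [← hgq, hA] at h
    exact (congrArg ((g : G) • ·) hA.symm).trans h
  · have h : ((q • B : centres Ω C) : Ω) = d := congrArg Subtype.val hqb
    rw [← hgq] at h
    exact h
  · intro x hxy hxa hxb hxd e he
    let x' : C := ⟨x, (hC x).mpr hxy⟩
    let X : (centresPerm Ω C).range := ⟨centresPerm Ω C x', x', rfl⟩
    have hXA : X • A = A := Subtype.ext (show x • (A : Ω) = A by rw [hA, hxa])
    have hXB : X • B = B := Subtype.ext hxb
    have hXE : X • E = E := Subtype.ext hxd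
    have h1 : X * q * X⁻¹ = q := congrArg Subtype.val (huniq ⟨_, RankOne.conj_Q hS hXA hq⟩ (by
      show (X * q * X⁻¹) • B = E
      rw [mul_smul, mul_smul, inv_smul_eq_iff.mpr hXB.symm, show q • B = E from hqb, hXE]))
    have h2 : centresPerm Ω C (g * x' * g⁻¹ * x'⁻¹) = 1 := by
      have h3 : q * X * q⁻¹ * X⁻¹ = 1 := by
        calc q * X * q⁻¹ * X⁻¹ = q * (X * q * X⁻¹)⁻¹ := by group
          _ = 1 := by rw [h1, mul_inv_cancel]
      rw [← hgq] at h3
      simpa [X] using congrArg Subtype.val h3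
    exact centresPerm_eq_one h2 ((hmem e).mpr he)

/-- The points other than `a` fixed by `y` and a commuting element fixing `a` and `b` are a power of 2 in number. -/
theorem card_fixed_pow {x : G} (hxy : x * y = y * x) (hxa : x • a = a) (hxb : x • b = b) :
    ∃ k : ℕ, Nat.card {d : Ω // d ≠ a ∧ x • d = d ∧ y • d = d} = 2 ^ k := by
  obtain ⟨C, hC, hmem, A, t, Q, hA, hS, hQ⟩ := centraliser_setup hF hNB hBel hab hy hp h3 h4
  haveI : Finite (centresPerm Ω C).range := Finite.of_surjective _ (MonoidHom.rangeRestrict_surjective _)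
  haveI : Fact (Nat.Prime 2) := ⟨Nat.prime_two⟩
  let B : centres Ω C := ⟨b, (hmem b).mpr (mem_two.mp hy).2⟩
  have hB : B ≠ A := fun e => hab ((congrArg Subtype.val e).trans hA)
  let X : (centresPerm Ω C).range := ⟨centresPerm Ω C ⟨x, (hC x).mpr hxy⟩, _, rfl⟩
  have hXA : X • A = A := Subtype.ext (show x • (A : Ω) = A by rw [hA, hxa])
  have hXB : X • B = B := Subtype.ext hxb
  obtain ⟨k, hk⟩ := IsPGroup.iff_card.mp
    (hQ.to_le (inf_le_left : Q ⊓ Subgroup.centralizer ({X} : Set (centresPerm Ω C).range) ≤ Q))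
  have hmaps : ∀ q : ↥(Q ⊓ Subgroup.centralizer ({X} : Set (centresPerm Ω C).range)),
      ((q.1 • B : centres Ω C) : Ω) ≠ a ∧ x • ((q.1 • B : centres Ω C) : Ω) = ((q.1 • B : centres Ω C) : Ω) ∧
        y • ((q.1 • B : centres Ω C) : Ω) = ((q.1 • B : centres Ω C) : Ω) := fun q => by
    refine ⟨fun e => hB ?_, ?_, (hmem _).mp (q.1 • B).2⟩
    · exact smul_left_cancel q.1 ((show q.1 • B = A from Subtype.ext (e.trans hA.symm)).trans
        (RankOne.mem_Q_a hS q.2.1).symm)
    · show ((X • q.1 • B : centres Ω C) : Ω) = _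
      rw [← mul_smul, ← Subgroup.mem_centralizer_singleton_iff.mp q.2.2, mul_smul, hXB]
  refine ⟨k, (Nat.card_eq_of_bijective (fun q => ⟨_, hmaps q⟩) ⟨?_, ?_⟩).symm.trans hk⟩
  · intro q q' e
    have e' : q.1 • B = q'.1 • B := Subtype.ext (Subtype.ext_iff.mp e :)
    obtain ⟨u, -, hu⟩ := RankOne.exists_unique_Q hS hB (fun h => hB (by
      have h' : q.1 • B = q.1 • A := h.trans (RankOne.mem_Q_a hS q.2.1).symm
      exact smul_left_cancel _ h') : q.1 • B ≠ A)
    exact Subtype.ext (congrArg (fun w : Q => w.1)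
      ((hu ⟨q.1, q.2.1⟩ rfl).trans (hu ⟨q'.1, q'.2.1⟩ e'.symm).symm))
  · rintro ⟨d, hda, hxd, hyd⟩
    let E : centres Ω C := ⟨d, (hmem d).mpr hyd⟩
    have hE : E ≠ A := fun e => hda ((congrArg Subtype.val e).trans hA)
    obtain ⟨⟨q, hq⟩, hqb, hu⟩ := RankOne.exists_unique_Q hS hB hE
    have h1 : X * q * X⁻¹ = q := congrArg Subtype.val (hu ⟨_, RankOne.conj_Q hS hXA hq⟩ (by
      show (X * q * X⁻¹) • B = E
      rw [mul_smul, mul_smul, inv_smul_eq_iff.mpr hXB.symm, show q • B = E from hqb]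
      exact Subtype.ext hxd))
    refine ⟨⟨q, hq, Subgroup.mem_centralizer_singleton_iff.mpr ?_⟩, Subtype.ext (congrArg Subtype.val hqb :)⟩
    exact ((mul_inv_eq_iff_eq_mul.mp h1)).symm

end CfsgLib.Bender.OneFix
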