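import Cfsg.Agent.Lib.Bender.B1.Basic
import Cfsg.Agent.Lib.Bender.FromB1.Lift
import Cfsg.Agent.Lib.Bender.FromB1.Engel
import Cfsg.Agent.Lib.RankOne.Basic

/-!
A minimal counterexample of part A of Bender's theorem has no proper normal subgroup containing an involution,
and is perfect.

Blueprint: `blueprint/bender/A5.md`, section 0.
-/

set_option autoImplicit false
set_option linter.unusedSectionVars false
set_option linter.style.haveILetI false

namespace CfsgLib.Bender.OneFix

open MulAction Cfsg CfsgLib.Bender.TwoClosed CfsgLib.CharTheory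
open CfsgLib.Bender.B1 (Good Below)
open scoped commutatorElement

universe u v

section General

variable {G : Type u} {Ω : Type v} [Group G] [MulAction G Ω] [Finite G] (hF : OneFix G Ω)
include hF

/-- All involutions are conjugate. -/
theorem isConj_inv [FaithfulSMul G Ω] {x y : G} (hx : IsInv x) (hy : IsInv y) : IsConj x y := by
  haveI := hF.trans
  obtain ⟨c, hc⟩ := exists_fix hF hx
  obtain ⟨d, hd⟩ := exists_fix hF hy
  obtain ⟨g, rfl⟩ := exists_smul_eq G c d
  obtain ⟨e, he⟩ := exists_ne hF (g • c)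
  obtain ⟨h, -, hh⟩ := exists_conj_stab hF (hx.conj g) (smul_conj hc) hy hd he.symm
  refine isConj_iff.mpr ⟨h * g, ?_⟩
  rw [← hh]
  group

/-- A normal subgroup containing an involution satisfies the same hypotheses. -/
theorem restrict [FaithfulSMul G Ω] {N : Subgroup G} [hN : N.Normal] {z : G} (hz : IsInv z) (hzN : z ∈ N) :
    OneFix N Ω := by
  have hall : ∀ x : G, IsInv x → x ∈ N := fun x hx => by
    obtain ⟨g, rfl⟩ := isConj_iff.mp (isConj_inv hF hz hx)
    exact hN.conj_mem z hzN g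
  refine ⟨⟨fun c d => ?_⟩, fun x hx => ?_, ?_⟩
  · rcases eq_or_ne c d with rfl | hne
    · exact ⟨1, one_smul _ c⟩
    · obtain ⟨⟨u, hu, huc⟩⟩ := exists_swap hF hne
      exact ⟨⟨u, hall u hu⟩, huc⟩
  · exact hF.one_fix x ⟨fun e => hx.1 (Subtype.ext e), congrArg Subtype.val hx.2⟩
  · obtain ⟨x, y, hx, hy, hne, hx2, hy2, hxy⟩ := hF.four
    exact ⟨⟨x, hall x ⟨hx, hx2⟩⟩, ⟨y, hall y ⟨hy, hy2⟩⟩, fun e => hx (congrArg Subtype.val e),
      fun e => hy (congrArg Subtype.val e), fun e => hne (congrArg Subtype.val e), Subtype.ext hx2,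
      Subtype.ext hy2, Subtype.ext hxy⟩

/-- A rank one set-up with a 2-group passes up from a normal subgroup. -/
theorem good_of_normal [FaithfulSMul G Ω] {N : Subgroup G} [hN : N.Normal] (hG : Good N Ω) : Good G Ω := by
  haveI : Fact (Nat.Prime 2) := ⟨Nat.prime_two⟩
  intro a
  obtain ⟨t, Q, hS, hQ2⟩ := hG a
  obtain ⟨P, hP⟩ := RankOne.exists_sylow_le hS
  have hPQ : (P : Subgroup N) = Q := (P.is_maximal' hQ2 hP).symm
  have hmax : ∀ y : N, y • a = a → (∃ k : ℕ, y ^ 2 ^ k = 1) → y ∈ Q := by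
    rintro y hya ⟨k, hk⟩
    have hy2 : IsPGroup 2 (Subgroup.zpowers y) := by
      obtain ⟨j, -, hj⟩ := (Nat.dvd_prime_pow Nat.prime_two).mp (orderOf_dvd_of_pow_eq_one hk)
      exact IsPGroup.of_card (n := j) (by rw [Nat.card_zpowers, hj])
    have hn : Subgroup.zpowers y ≤ Subgroup.normalizer (Q : Set N) := Subgroup.zpowers_le.mpr
      (mem_normalizer_of_conj fun x hx => RankOne.conj_Q hS hya hx)
    have h := P.is_maximal' (hQ2.to_sup_of_normal_left' hy2 hn) (hPQ.le.trans le_sup_left)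
    exact hPQ.le (h.le (Subgroup.mem_sup_right (Subgroup.mem_zpowers y)))
  set b : Ω := t • a with hb
  have hba : b ≠ a := RankOne.ta_ne hS
  refine ⟨t, Q.map N.subtype, ⟨?_, congrArg Subtype.val hS.mul_self, fun e => hS.ne_one (Subtype.ext e),
    hS.not_mem, ?_, ?_, ?_, ?_, ?_, ?_⟩, hQ2.map _⟩
  · rw [is_two_pretransitive_iff]
    intro p q p' q' h h'
    obtain ⟨g, hg⟩ := is_two_pretransitive_iff.mp hS.two_transitive h h'
    exact ⟨g, hg⟩
  · rintro _ ⟨x, hx, rfl⟩
    exact mem_stabilizer_iff.mpr (RankOne.mem_Q_a hS hx)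
  · rintro h hh _ ⟨x, hx, rfl⟩
    refine ⟨⟨h * x * h⁻¹, hN.conj_mem _ x.2 h⟩, hmax _ ?_ ?_, rfl⟩
    · show (h * (x : G) * h⁻¹) • a = a
      have hh' := mem_stabilizer_iff.mp hh
      have hxa : (x : G) • a = a := RankOne.mem_Q_a hS hx
      rw [mul_smul, mul_smul, inv_smul_eq_iff.mpr hh'.symm, hxa, hh']
    · obtain ⟨k, hk⟩ := hQ2 ⟨x, hx⟩
      refine ⟨k, Subtype.ext ?_⟩
      show (h * (x : G) * h⁻¹) ^ 2 ^ k = 1
      have hk' : (x : G) ^ 2 ^ k = 1 := congrArg (fun w : Q => ((w : N) : G)) hk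
      rw [conj_pow, hk', mul_one, mul_inv_cancel]
  · rw [eq_bot_iff]
    rintro _ ⟨⟨x, hx, rfl⟩, hxb⟩
    exact Subgroup.mem_bot.mpr (congrArg Subtype.val
      (RankOne.eq_one_of_fix_ta hS hx (mem_stabilizer_iff.mp hxb)))
  · refine le_antisymm (sup_le (by rintro _ ⟨x, hx, rfl⟩; exact mem_stabilizer_iff.mpr (RankOne.mem_Q_a hS hx))
      inf_le_left) fun h hh => ?_
    have hh' := mem_stabilizer_iff.mp hh
    obtain ⟨x, hx, hxb⟩ := RankOne.exists_Q_ta hS (c := h • b)
      (fun e => hba (smul_left_cancel h (e.trans hh'.symm)))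
    rw [← mul_inv_cancel_left (x : G) h]
    refine Subgroup.mul_mem_sup ⟨x, hx, rfl⟩ (mem_two.mpr ⟨?_, ?_⟩)
    · rw [mul_smul, hh', inv_smul_eq_iff]
      exact (RankOne.mem_Q_a hS hx).symm
    · show ((x : G)⁻¹ * h) • b = b
      rw [mul_smul, inv_smul_eq_iff]
      exact hxb.symm
  · rw [Subgroup.card_map_of_injective N.subtype_injective]
    exact hS.even_card
  · exact odd_two hF hba.symm

end General

section Minimal

variable {G Ω : Type u} [Group G] [MulAction G Ω] [Finite G] [FaithfulSMul G Ω] (hF : OneFix G Ω)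
  (hBel : Below.{u} (Nat.card G)) (hnG : ¬ Good G Ω)
include hF hBel hnG

/-- In a minimal counterexample no proper normal subgroup contains an involution. -/
theorem eq_top_of_mem_inv {N : Subgroup G} [N.Normal] {z : G} (hz : IsInv z) (hzN : z ∈ N) :
    N = ⊤ := by
  by_contra hne
  refine hnG (good_of_normal hF (N := N) ?_)
  exact hBel N Ω (restrict hF hz hzN)
    (lt_of_le_of_ne (Subgroup.card_le_card_group N) fun e => hne ((Subgroup.card_eq_iff_eq_top N).mp e))

/-- A minimal counterexample is perfect. -/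
theorem commutator_eq_top : commutator G = ⊤ := by
  obtain ⟨x, y, hx, hy, hne, hx2, hy2, hxy⟩ := hF.four
  obtain ⟨g, hg⟩ := isConj_iff.mp (isConj_inv hF (⟨hx, hx2⟩ : IsInv x) ⟨hy, hy2⟩)
  have hinv : IsInv (x * y) := ⟨fun e => hne ((mul_eq_one_iff_eq_inv.mp e).trans (IsInv.inv ⟨hy, hy2⟩)), by
    calc x * y * (x * y) = x * (y * x) * y := by group
      _ = 1 := by rw [← hxy, ← mul_assoc, hx2, one_mul, hy2]⟩
  refine eq_top_of_mem_inv hF hBel hnG hinv ?_
  have h : ⁅x, g⁆ ∈ commutator G := Subgroup.commutator_mem_commutator (Subgroup.mem_top x) (Subgroup.mem_top g)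
  have he : ⁅x, g⁆ = x * y := by
    rw [← hg, commutatorElement_def, IsInv.inv (⟨hx, hx2⟩ : IsInv x)]
    group
  rwa [he] at h

/-- With no bad elements, a point stabiliser of a minimal counterexample is generated by a two-point stabiliser and
its derived group. -/
theorem stab_eq_two_sup (hNB : NoBad G Ω) {a b : Ω} (hb : b ≠ a) :
    (two a b).subgroupOf (stabilizer G a) ⊔ commutator (stabilizer G a) = ⊤ := by
  haveI := Fintype.ofFinite G
  exact stab_eq_two_sup_commutator hF hNB (commutator_eq_top hF hBel hnG) hb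

/-- Engel's form in a minimal counterexample. -/
theorem engel_false [Fintype G] {z : G} (hz : IsInv z) {F : G → ℂ} (hgen : IsGeneralizedCharacter G F)
    (h0 : classInner F (fun _ : G => (1 : ℂ)) ≠ 0) (h1 : F 1 = 0) (hFz : F z = 0)
    (hwt : CfsgLib.SuzukiRankOne.wt z F = 0) (h3 : (classInner F F).re ≤ 3) : False :=
  FromB1.engel_norm_le_three hgen hz.2 h0 h1 hFz hwt
    (fun N hN hzN => by
      haveI := hN
      exact eq_top_of_mem_inv hF hBel hnG hz hzN) h3

end Minimal

end CfsgLib.Bender.OneFix
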