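import Cfsg.Agent.Lib.Bender.FromB1.Lifts

/-!
A normal piece of a point stabiliser in which elements of the two-point stabiliser with three fixed points have
big centralisers: movers inside centralisers, and the two-point stabiliser of the piece is a Hall subgroup.
-/

set_option autoImplicit false
set_option linter.unusedSectionVars false
set_option linter.style.haveILetI false

namespace CfsgLib.Bender.OneFix

open MulAction Cfsg CfsgLib.Bender.TwoClosed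
open CfsgLib.Bender.B1 (FourIn)

universe u

/-- The hypotheses on a normal subgroup `M` of `G_a`. -/
structure Piece {G Ω : Type u} [Group G] [MulAction G Ω] (a b : Ω) (M : Subgroup G) : Prop where
  le : M ≤ stabilizer G a
  conj_mem : ∀ h ∈ stabilizer G a, ∀ x ∈ M, h * x * h⁻¹ ∈ M
  four : ∀ y ∈ M, y ∈ two a b → (orderOf y).Prime → Third a b y →
    FourIn (Subgroup.centralizer (Subgroup.zpowers y : Set G))
  lift : ∀ y ∈ M, y ∈ two a b → (orderOf y).Prime → Third a b y → ∀ g : G, g • a = a → g * y = y * g →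
    (∃ k : ℕ, g ^ 2 ^ k = 1) → g ∈ M

namespace Piece

variable {G Ω : Type u} [Group G] [MulAction G Ω] [Finite G] [FaithfulSMul G Ω] (hF : OneFix G Ω)
  (hNB : NoBad G Ω) (hBel : B1.Below.{u} (Nat.card G)) {a b : Ω} (hab : b ≠ a) {M : Subgroup G}
  (hM : Piece a b M)
include hF hNB hBel hab hM

/-- The movers of `exists_lift`, inside `M`. -/
theorem exists_move {y : G} (hyM : y ∈ M) (hy : y ∈ two a b) (hp : (orderOf y).Prime) (h3 : Third a b y) {d : Ω}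
    (hda : d ≠ a) (hd : y • d = d) :
    ∃ g ∈ M, g * y = y * g ∧ (∃ k : ℕ, g ^ 2 ^ k = 1) ∧ g • b = d ∧
      ∀ x : G, x * y = y * x → x • a = a → x • b = b → x • d = d → ∀ e : Ω, y • e = e →
        (g * x * g⁻¹ * x⁻¹) • e = e := by
  obtain ⟨g, hga, hgy, hk, hgb, hcom⟩ := exists_lift hF hNB hBel hab hy hp h3 (hM.four y hyM hy hp h3) hda hd
  exact ⟨g, hM.lift y hyM hy hp h3 g hga hgy hk, hgy, hk, hgb, hcom⟩

/-- A 2-element of `M` normalising a subgroup of `M ∩ G_ab` centralises it. -/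
theorem commute_of_normalises : ∀ k : ℕ, ∀ g ∈ M, g ^ 2 ^ k = 1 → ∀ K : Subgroup G, K ≤ M ⊓ two a b →
    (∀ e ∈ K, g * e * g⁻¹ ∈ K) → ∀ e ∈ K, g * e = e * g := by
  intro k
  induction k with
  | zero =>
    intro g _ hg K _ _ e _
    rw [pow_zero, pow_one] at hg
    rw [hg, one_mul, mul_one]
  | succ k ih =>
    intro g hgM hg K hK hn e he
    by_contra hne
    set y := g * e * g⁻¹ * e⁻¹ with hy
    have hyK : y ∈ K := mul_mem (hn e he) (inv_mem he)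
    have hy1 : y ≠ 1 := fun h => hne (by rwa [hy, mul_inv_eq_one, mul_inv_eq_iff_eq_mul] at h)
    have h2 : g * g * e = e * (g * g) := ih (g * g) (mul_mem hgM hgM)
      (by rw [← pow_two, ← pow_mul, ← pow_succ']; exact hg) K hK (fun z hz => by
        have := hn _ (hn z hz)
        rwa [show g * (g * z * g⁻¹) * g⁻¹ = g * g * z * (g * g)⁻¹ by group] at this) e he
    have hgy : g * y * g⁻¹ = y⁻¹ := by
      calc g * y * g⁻¹ = g * g * e * (g * g)⁻¹ * (g * e⁻¹ * g⁻¹) := by rw [hy]; group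
        _ = e * (g * e⁻¹ * g⁻¹) := by rw [h2, mul_inv_cancel_right]
        _ = y⁻¹ := by rw [hy]; group
    have hodd : ∀ z ∈ K, Odd (orderOf z) := fun z hz => odd_orderOf (odd_two hF hab.symm) (hK hz).2
    obtain ⟨q, hq, hqd⟩ := Nat.exists_prime_and_dvd fun h => hy1 (orderOf_eq_one_iff.mp h)
    set w := y ^ (orderOf y / q)
    have hwo : orderOf w = q := orderOf_pow_orderOf_div (orderOf_pos y).ne' hqd
    have hwK : w ∈ K := pow_mem hyK _
    have hgw : g * w * g⁻¹ = w⁻¹ := by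
      rw [← conj_pow, hgy, inv_pow]
    have hwfix := mem_two.mp (hK hwK).2
    have hga : g • a = a := mem_stabilizer_iff.mp (hM.le hgM)
    have hgb : g • b ≠ b := fun h => by
      have h1 : g = 1 := orderOf_eq_one_iff.mp (Nat.eq_one_of_dvd_coprimes
        ((Nat.coprime_two_left.mpr (odd_two hF hab.symm)).pow_left (k + 1))
        (orderOf_dvd_of_pow_eq_one hg) (Subgroup.orderOf_dvd_natCard _ (mem_two.mpr ⟨hga, h⟩)))
      exact hne (by rw [h1, one_mul, mul_one])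
    have hgba : g • b ≠ a := fun h => hab (smul_left_cancel g (h.trans hga.symm))
    have hwgb : w • g • b = g • b := by
      have h : g * w⁻¹ * g⁻¹ = w := by
        calc g * w⁻¹ * g⁻¹ = (g * w * g⁻¹)⁻¹ := by group
          _ = w := by rw [hgw, inv_inv]
      conv_lhs => rw [← h]
      rw [mul_smul, mul_smul, inv_smul_smul, inv_smul_eq_iff.mpr hwfix.2.symm]
    obtain ⟨h, hhM, hhw, -, hhb, -⟩ := exists_move hF hNB hBel hab hM (hK hwK).1 (hK hwK).2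
      (by rw [hwo]; exact hq) ⟨g • b, hgba, hgb, hwgb⟩ hgba hwgb
    have hhw' : h⁻¹ * w * h = w := by
      rw [mul_assoc, ← hhw, ← mul_assoc, inv_mul_cancel, one_mul]
    have hδ : h⁻¹ * g ∈ two a b := mem_two.mpr ⟨by
      rw [mul_smul, hga, inv_smul_eq_iff, (mem_stabilizer_iff.mp (hM.le hhM))], by
      rw [mul_smul, ← hhb, inv_smul_smul]⟩
    have hδw : h⁻¹ * g * w * (h⁻¹ * g)⁻¹ = w⁻¹ := by
      calc h⁻¹ * g * w * (h⁻¹ * g)⁻¹ = h⁻¹ * (g * w * g⁻¹) * h := by group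
        _ = (h⁻¹ * w * h)⁻¹ := by rw [hgw]; group
        _ = w⁻¹ := by rw [hhw']
    set δ := h⁻¹ * g
    have hsq : Commute (δ * δ) w := by
      refine mul_inv_eq_iff_eq_mul.mp ?_
      calc δ * δ * w * (δ * δ)⁻¹ = δ * (δ * w * δ⁻¹) * δ⁻¹ := by group
        _ = (δ * w * δ⁻¹)⁻¹ := by
            conv_lhs => rw [hδw]
            group
        _ = w := by rw [hδw, inv_inv]
    obtain ⟨n, hn'⟩ := CfsgLib.Involutions.exists_sqrt (odd_orderOf (odd_two hF hab.symm) hδ)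
    have hcom : Commute δ w := by
      have h' := hsq.pow_left n
      rwa [(Commute.refl δ).mul_pow, hn'] at h'
    have hw1 : w = 1 := eq_one_of_inv_eq (by rw [← hδw, hcom.eq, mul_inv_cancel_right]) (hodd w hwK)
    rw [hw1, orderOf_one] at hwo
    exact hq.one_lt.ne hwo

/-- The centraliser in `M` of `x ∈ M ∩ G_ab` is transitive on its fixed points other than `a`. -/
theorem exists_move_cent {x : G} (hxM : x ∈ M) (hx : x ∈ two a b) (hx1 : x ≠ 1) {d : Ω} (hda : d ≠ a)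
    (hd : x • d = d) : ∃ g ∈ M, g * x = x * g ∧ g • b = d := by
  rcases eq_or_ne d b with rfl | hdb
  · exact ⟨1, one_mem M, by rw [one_mul, mul_one], one_smul _ _⟩
  obtain ⟨q, hq, hqd⟩ := Nat.exists_prime_and_dvd fun h => hx1 (orderOf_eq_one_iff.mp h)
  set w := x ^ (orderOf x / q)
  have hwo : orderOf w = q := orderOf_pow_orderOf_div (orderOf_pos x).ne' hqd
  have hw : ∀ {e : Ω}, x • e = e → w • e = e := fun {e} he =>
    mem_stabilizer_iff.mp (pow_mem (mem_stabilizer_iff.mpr he) _)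
  have hxw : x * w = w * x := (Commute.self_pow x _).eq
  obtain ⟨hxa, hxb⟩ := mem_two.mp hx
  obtain ⟨g, hgM, hgw, ⟨k, hk⟩, hgb, hcom⟩ := exists_move hF hNB hBel hab hM (pow_mem hxM _) (pow_mem hx _)
    (by rw [hwo]; exact hq) ⟨d, hda, hdb, hw hd⟩ hda (hw hd)
  have hback : ∀ e : Ω, x • e = e → x • g⁻¹ • e = g⁻¹ • e := fun e he => by
    have h := hcom x hxw hxa hxb hd e (hw he)
    rw [mul_smul, inv_smul_eq_iff.mpr he.symm, mul_smul, mul_smul] at h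
    exact eq_inv_smul_iff.mpr h
  refine ⟨g, hgM, commute_of_normalises hF hNB hBel hab hM k g hgM hk
    (M ⊓ Subgroup.centralizer ({w} : Set G) ⊓ ⨅ e : {e : Ω // x • e = e}, stabilizer G (e : Ω)) ?_ ?_ x ?_, hgb⟩
  · intro z hz'
    obtain ⟨⟨hzM, -⟩, hzf⟩ := Subgroup.mem_inf.mp hz' |>.imp_left Subgroup.mem_inf.mp
    have hz := Subgroup.mem_iInf.mp hzf
    exact ⟨hzM, mem_two.mpr ⟨mem_stabilizer_iff.mp (hz ⟨a, hxa⟩), mem_stabilizer_iff.mp (hz ⟨b, hxb⟩)⟩⟩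
  · intro z hz'
    obtain ⟨⟨hzM, hzw⟩, hzf⟩ := Subgroup.mem_inf.mp hz' |>.imp_left Subgroup.mem_inf.mp
    refine Subgroup.mem_inf.mpr ⟨Subgroup.mem_inf.mpr ⟨mul_mem (mul_mem hgM hzM) (inv_mem hgM), ?_⟩,
      Subgroup.mem_iInf.mpr fun e => mem_stabilizer_iff.mpr ?_⟩
    · have hg' : g ∈ Subgroup.centralizer ({w} : Set G) := Subgroup.mem_centralizer_singleton_iff.mpr hgw
      exact Subgroup.mul_mem _ (Subgroup.mul_mem _ hg' hzw) (Subgroup.inv_mem _ hg')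
    · have h := mem_stabilizer_iff.mp (Subgroup.mem_iInf.mp hzf ⟨_, hback e e.2⟩)
      rw [mul_smul, mul_smul, h, smul_inv_smul]
  · exact ⟨⟨hxM, Subgroup.mem_centralizer_singleton_iff.mpr hxw⟩,
      Subgroup.mem_iInf.mpr fun e => mem_stabilizer_iff.mpr e.2⟩

/-- The points other than `a` fixed by `x ∈ M ∩ G_ab` are a power of 2 in number. -/
theorem card_fix_pow {x : G} (hxM : x ∈ M) (hx : x ∈ two a b) (hx1 : x ≠ 1) :
    ∃ k : ℕ, Nat.card {d : Ω // d ≠ a ∧ x • d = d} = 2 ^ k := by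
  obtain ⟨hxa, hxb⟩ := mem_two.mp hx
  by_cases h3 : Third a b x
  swap
  · haveI : Nonempty {d : Ω // d ≠ a ∧ x • d = d} := ⟨⟨b, hab, hxb⟩⟩
    haveI : Subsingleton {d : Ω // d ≠ a ∧ x • d = d} := by
      refine ⟨fun d d' => Subtype.ext ?_⟩
      have h : ∀ d : {d : Ω // d ≠ a ∧ x • d = d}, (d : Ω) = b := fun d =>
        by_contra fun h => h3 ⟨d, d.2.1, h, d.2.2⟩
      rw [h d, h d']
    exact ⟨0, by rw [Nat.card_of_subsingleton (⟨b, hab, hxb⟩ : {d : Ω // d ≠ a ∧ x • d = d}), pow_zero]⟩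
  obtain ⟨q, hq, hqd⟩ := Nat.exists_prime_and_dvd fun h => hx1 (orderOf_eq_one_iff.mp h)
  set w := x ^ (orderOf x / q)
  have hwo : orderOf w = q := orderOf_pow_orderOf_div (orderOf_pos x).ne' hqd
  have hw : ∀ {e : Ω}, x • e = e → w • e = e := fun {e} he =>
    mem_stabilizer_iff.mp (pow_mem (mem_stabilizer_iff.mpr he) _)
  obtain ⟨c, hca, hcb, hc⟩ := h3
  obtain ⟨k, hk⟩ := card_fixed_pow hF hNB hBel hab (pow_mem hx _) (by rw [hwo]; exact hq) ⟨c, hca, hcb, hw hc⟩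
    (hM.four w (pow_mem hxM _) (pow_mem hx _) (by rw [hwo]; exact hq) ⟨c, hca, hcb, hw hc⟩) (Commute.self_pow x _).eq hxa hxb
  exact ⟨k, hk ▸ Nat.card_congr (Equiv.subtypeEquivRight fun d =>
    ⟨fun h => ⟨h.1, h.2, hw h.2⟩, fun h => ⟨h.1, h.2.1⟩⟩)⟩

/-- A `p`-subgroup of `M` centralising `x ∈ M ∩ G_ab` is conjugate by an element centralising `x` into `G_ab`. -/
theorem conj_into {x : G} (hxM : x ∈ M) (hx : x ∈ two a b) (hx1 : x ≠ 1) {p : ℕ} [Fact p.Prime] (hp2 : p ≠ 2)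
    {P : Subgroup G} (hP : IsPGroup p P) (hPM : P ≤ M) (hPx : ∀ e ∈ P, e * x = x * e) :
    ∃ g ∈ M, g * x = x * g ∧ ∀ e ∈ P, g⁻¹ * e * g ∈ two a b := by
  have hmaps : ∀ (e : P) (d : {d : Ω // d ≠ a ∧ x • d = d}),
      (e : G) • (d : Ω) ≠ a ∧ x • (e : G) • (d : Ω) = (e : G) • (d : Ω) := fun e d =>
    ⟨fun h => d.2.1 (smul_left_cancel (e : G) (h.trans (mem_stabilizer_iff.mp (hM.le (hPM e.2))).symm)),
      by rw [← mul_smul, ← hPx e e.2, mul_smul, d.2.2]⟩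
  letI : MulAction P {d : Ω // d ≠ a ∧ x • d = d} :=
    { smul := fun e d => ⟨(e : G) • (d : Ω), hmaps e d⟩
      one_smul := fun d => Subtype.ext (one_smul G (d : Ω))
      mul_smul := fun e e' d => Subtype.ext (mul_smul (e : G) (e' : G) (d : Ω)) }
  obtain ⟨k, hk⟩ := card_fix_pow hF hNB hBel hab hM hxM hx hx1
  obtain ⟨⟨d, hda, hd⟩, hfix⟩ := hP.nonempty_fixed_point_of_prime_not_dvd_card {d : Ω // d ≠ a ∧ x • d = d} (by
    rw [hk]
    exact fun h => hp2 ((Nat.prime_dvd_prime_iff_eq Fact.out Nat.prime_two).mp ((Fact.out : p.Prime).dvd_of_dvd_pow h)))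
  obtain ⟨g, hgM, hgx, hgb⟩ := exists_move_cent hF hNB hBel hab hM hxM hx hx1 hda hd
  have hga : g • a = a := mem_stabilizer_iff.mp (hM.le hgM)
  refine ⟨g, hgM, hgx, fun e he => mem_two.mpr ⟨?_, ?_⟩⟩
  · rw [mul_smul, mul_smul, hga, mem_stabilizer_iff.mp (hM.le (hPM he)), inv_smul_eq_iff, hga]
  · rw [mul_smul, mul_smul, hgb, show e • d = d from congrArg Subtype.val (hfix ⟨e, he⟩), inv_smul_eq_iff, hgb]

/-- A Sylow subgroup of `M ∩ G_ab` is one of `M`. -/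
theorem maxP_of_two {p : ℕ} [Fact p.Prime] (hpd : p ∣ Nat.card ↥(M ⊓ two a b)) {R : Subgroup G}
    (hR : MaxP p (M ⊓ two a b) R) : MaxP p M R := by
  have hp : p.Prime := Fact.out
  have hp2 : p ≠ 2 := fun h => Nat.not_even_iff_odd.mpr (odd_two hF hab.symm)
    (even_iff_two_dvd.mpr (h ▸ hpd.trans (Subgroup.card_dvd_of_le inf_le_right)))
  have hRcard : p ∣ Nat.card R := by
    rw [hR.card]
    exact dvd_pow_self p (hp.factorization_pos_of_dvd Nat.card_pos.ne' hpd).ne'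
  obtain ⟨Y, hRY, hY⟩ := exists_maxP hR.isPGroup (hR.le.trans inf_le_left : R ≤ M)
  rcases hRY.eq_or_lt with rfl | hlt
  · exact hY
  exfalso
  obtain ⟨g, hg, hgR, hgn⟩ := exists_mem_normalizer hY.isPGroup hlt
  set P := R ⊔ Subgroup.zpowers g
  have hPY : P ≤ Y := sup_le hRY (Subgroup.zpowers_le.mpr hg)
  have hPp : IsPGroup p P := hY.isPGroup.to_le hPY
  have hPn : P ≤ Subgroup.normalizer (R : Set G) := sup_le Subgroup.le_normalizer (Subgroup.zpowers_le.mpr hgn)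
  letI : MulAction P R :=
    { smul := fun e r => ⟨(e : G) * r * (e : G)⁻¹, conj_mem_of_normalizer (hPn e.2) r.2⟩
      one_smul := fun r => Subtype.ext (show (1 : G) * r * (1 : G)⁻¹ = r by rw [one_mul, inv_one, mul_one])
      mul_smul := fun e e' r => Subtype.ext (show ((e : G) * e') * r * ((e : G) * e')⁻¹ =
        (e : G) * ((e' : G) * r * (e' : G)⁻¹) * (e : G)⁻¹ by group) }
  obtain ⟨r, hr, hr1⟩ := hPp.exists_fixed_point_of_prime_dvd_card_of_fixed_point R hRcard (a := 1)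
    (fun e => Subtype.ext (show (e : G) * 1 * (e : G)⁻¹ = 1 by rw [mul_one, mul_inv_cancel]))
  have hr1' : (r : G) ≠ 1 := fun h => hr1 (Subtype.ext h).symm
  have hcom : ∀ e ∈ P, e * (r : G) = r * e := fun e he =>
    mul_inv_eq_iff_eq_mul.mp (congrArg Subtype.val (hr ⟨e, he⟩) :)
  obtain ⟨h, hhM, -, hh⟩ := conj_into hF hNB hBel hab hM (hR.le r.2).1 (hR.le r.2).2 hr1' hp2 hPp
    (hPY.trans hY.le) hcom
  have hle : P.map (MulAut.conj h⁻¹).toMonoidHom ≤ M ⊓ two a b := by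
    rintro _ ⟨e, he, rfl⟩
    show h⁻¹ * e * h⁻¹⁻¹ ∈ M ⊓ two a b
    rw [inv_inv]
    exact Subgroup.mem_inf.mpr ⟨M.mul_mem (M.mul_mem (M.inv_mem hhM) (hY.le (hPY he))) hhM, hh e he⟩
  obtain ⟨Z, hPZ, hZ⟩ := exists_maxP (hPp.map (MulAut.conj h⁻¹).toMonoidHom) hle
  have h1 := Subgroup.card_dvd_of_le hPZ
  rw [Subgroup.card_map_of_injective (MulAut.conj h⁻¹).injective, hZ.card, ← hR.card] at h1
  have h2 : R = P := Subgroup.eq_of_le_of_card_ge le_sup_left (Nat.le_of_dvd Nat.card_pos h1)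
  exact hgR (h2.ge ((le_sup_right : Subgroup.zpowers g ≤ P) (Subgroup.mem_zpowers g)))

/-- A `p`-subgroup of `M` of order dividing `|M ∩ G_ab|` is conjugate in `M` into `G_ab`. -/
theorem pgroup_conj {p : ℕ} [Fact p.Prime] {P : Subgroup G} (hP : IsPGroup p P) (hPM : P ≤ M)
    (hd : Nat.card P ∣ Nat.card ↥(M ⊓ two a b)) : ∃ g ∈ M, ∀ e ∈ P, g * e * g⁻¹ ∈ two a b := by
  rcases eq_or_ne P ⊥ with rfl | hP1
  · exact ⟨1, one_mem M, fun e he => by rw [Subgroup.mem_bot.mp he]; simp⟩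
  obtain ⟨j, hj⟩ := IsPGroup.iff_card.mp hP
  have hj0 : j ≠ 0 := fun h => hP1 (Subgroup.card_eq_one.mp (by rw [hj, h, pow_zero]))
  have hpd : p ∣ Nat.card ↥(M ⊓ two a b) := (dvd_pow_self p hj0).trans (hj ▸ hd)
  obtain ⟨R, -, hR⟩ := exists_maxP (p := p) (IsPGroup.of_bot) (bot_le : ⊥ ≤ M ⊓ two a b)
  obtain ⟨Y, hPY, hY⟩ := exists_maxP hP hPM
  obtain ⟨g, hgM, hg⟩ := hY.conj (maxP_of_two hF hNB hBel hab hM hpd hR)
  exact ⟨g, hgM, fun e he => (hR.le ((hg e).mp (hPY he))).2⟩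

/-- An element of `M` of order dividing `|M ∩ G_ab|` is conjugate in `M` into `G_ab`. -/
theorem elem_conj : ∀ n : ℕ, ∀ x ∈ M, orderOf x = n → n ∣ Nat.card ↥(M ⊓ two a b) →
    ∃ g ∈ M, g * x * g⁻¹ ∈ two a b := by
  intro n
  induction n using Nat.strong_induction_on with
  | _ n ih =>
  intro x hxM hn hd
  rcases eq_or_ne n 1 with rfl | hn1
  · exact ⟨1, one_mem M, by rw [orderOf_eq_one_iff.mp hn]; simp⟩
  obtain ⟨q, hq, hqd⟩ := Nat.exists_prime_and_dvd hn1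
  haveI := Fact.mk hq
  have hn0 : n ≠ 0 := hn ▸ (orderOf_pos x).ne'
  obtain ⟨i, r, hr, hn'⟩ := Nat.exists_eq_pow_mul_and_not_dvd hn0 q hq.ne_one
  have hi : i ≠ 0 := fun h => hr (by rw [hn', h, pow_zero, one_mul] at hqd; exact hqd)
  have hv : orderOf (x ^ r) = q ^ i := by
    rw [orderOf_pow_of_dvd (fun h => hr (by rw [h]; exact dvd_zero q)) (hn ▸ hn' ▸ dvd_mul_left _ _), hn, hn',
      Nat.mul_div_cancel _ (Nat.pos_of_ne_zero fun h => hr (by rw [h]; exact dvd_zero q))]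
  have hu : orderOf (x ^ q ^ i) = r := by
    rw [orderOf_pow_of_dvd (pow_ne_zero _ hq.ne_zero) (hn ▸ hn' ▸ dvd_mul_right _ _), hn, hn',
      Nat.mul_div_cancel_left _ (pow_pos hq.pos i)]
  have hPv : IsPGroup q (Subgroup.zpowers (x ^ r)) := IsPGroup.of_card (n := i) (by rw [Nat.card_zpowers, hv])
  rcases eq_or_ne r 1 with rfl | hr1
  · rw [pow_one] at hPv
    obtain ⟨g, hg, hgx⟩ := pgroup_conj hF hNB hBel hab hM hPv (Subgroup.zpowers_le.mpr hxM)
      (by rw [Nat.card_zpowers, hn]; exact hd)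
    exact ⟨g, hg, hgx x (Subgroup.mem_zpowers x)⟩
  have hrlt : r < n := by
    rw [hn']
    exact lt_mul_left (Nat.pos_of_ne_zero fun h => hr (by rw [h]; exact dvd_zero q)) (Nat.one_lt_pow hi hq.one_lt)
  obtain ⟨g₀, hg₀, hu'⟩ := ih r hrlt _ (pow_mem hxM _) hu ((hn' ▸ dvd_mul_left r (q ^ i) : r ∣ n).trans hd)
  set u' := g₀ * x ^ q ^ i * g₀⁻¹
  set v' := g₀ * x ^ r * g₀⁻¹
  have hu1 : u' ≠ 1 := fun h => hr1 (by
    rw [← hu, orderOf_eq_one_iff]
    exact conj_eq_one_iff.mp h)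
  have hcom : Commute v' u' := ((Commute.pow_pow_self x r (q ^ i)).map (MulAut.conj g₀).toMonoidHom :)
  have hq2 : q ≠ 2 := fun h => Nat.not_even_iff_odd.mpr (odd_two hF hab.symm) (even_iff_two_dvd.mpr
    (h ▸ (hqd.trans hd).trans (Subgroup.card_dvd_of_le inf_le_right)))
  obtain ⟨g, hg, hgu, hgv⟩ := conj_into hF hNB hBel hab hM (mul_mem (mul_mem hg₀ (pow_mem hxM _)) (inv_mem hg₀))
    hu' hu1 hq2 (P := Subgroup.zpowers v')
    (IsPGroup.of_card (n := i) (by rw [Nat.card_zpowers, CfsgLib.Involutions.orderOf_conj, hv]))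
    (Subgroup.zpowers_le.mpr (mul_mem (mul_mem hg₀ (pow_mem hxM _)) (inv_mem hg₀))) fun e he => by
      obtain ⟨j, rfl⟩ := Subgroup.mem_zpowers_iff.mp he
      exact (hcom.zpow_left j).eq
  refine ⟨g⁻¹ * g₀, mul_mem (inv_mem hg) hg₀, ?_⟩
  have hbez : (1 : ℤ) = (r : ℤ) * Nat.gcdA r (q ^ i) + ((q ^ i : ℕ) : ℤ) * Nat.gcdB r (q ^ i) := by
    rw [← Nat.gcd_eq_gcd_ab, (((hq.coprime_iff_not_dvd.mpr hr).symm).pow_right i).gcd_eq_one, Nat.cast_one]
  have hx' : x = (x ^ r) ^ Nat.gcdA r (q ^ i) * (x ^ q ^ i) ^ Nat.gcdB r (q ^ i) := by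
    conv_lhs => rw [← zpow_one x, hbez, zpow_add, zpow_mul, zpow_mul, zpow_natCast, zpow_natCast]
  have h1 : g⁻¹ * g₀ * x ^ r * (g⁻¹ * g₀)⁻¹ ∈ two a b := by
    rw [show g⁻¹ * g₀ * x ^ r * (g⁻¹ * g₀)⁻¹ = g⁻¹ * v' * g by simp only [v']; group]
    exact hgv v' (Subgroup.mem_zpowers v')
  have h2 : g⁻¹ * g₀ * x ^ q ^ i * (g⁻¹ * g₀)⁻¹ ∈ two a b := by
    rw [show g⁻¹ * g₀ * x ^ q ^ i * (g⁻¹ * g₀)⁻¹ = g⁻¹ * u' * g by simp only [u']; group,
      show g⁻¹ * u' * g = u' by rw [mul_assoc, ← hgu, ← mul_assoc, inv_mul_cancel, one_mul]]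
    exact hu'
  rw [hx', ← conj_mul, ← conj_zpow, ← conj_zpow]
  exact mul_mem (zpow_mem h1 _) (zpow_mem h2 _)

end Piece

end CfsgLib.Bender.OneFix
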